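import Cfsg.Agent.BM.Snd

/-! Identities between words that follow from the Coxeter relations. -/

set_option autoImplicit false

namespace Cfsg.Agent.BM

def ad (a b : ℕ) : Bool :=
  Nat.beq (Nat.land (Nat.shiftRight (nat_lit 49040044431299118435194156572764099389946957420346736640)
    (Nat.add (Nat.mul a 16) b)) 1) 1

noncomputable def hd3 (a b r : ℕ) : ℕ :=
  Bool.rec (motive := fun _ => ℕ)
    (Bool.rec (motive := fun _ => ℕ) (b + 16 * (a + 16 * (r / 16 / 16)))
      (Bool.rec (motive := fun _ => ℕ) r (b + 16 * (a + 16 * (b + 16 * (r / 16 / 16 / 16))))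
        (Nat.beq (r / 16 / 16 % 16) a)) (ad a b))
    (r / 16 / 16) (Nat.beq a b)

noncomputable def mv (p W : ℕ) : ℕ :=
  W % 16 ^ p + 16 ^ p * hd3 (W / 16 ^ p % 16) (W / 16 ^ p / 16 % 16) (W / 16 ^ p)

noncomputable def mvs (l : List ℕ) : ℕ → (ℕ → Bool) → Bool :=
  List.rec (motive := fun _ => ℕ → (ℕ → Bool) → Bool) (fun W k => k W)
    (fun p _ ih W k => frc (mv p W) fun W' => ih W' k) l

def enc : List ℕ → ℕ
  | [] => 0
  | x :: w => x + 16 * enc w

noncomputable def ceq (u v m m' : List ℕ) : Bool :=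
  (u ++ v).all (fun x => Nat.ble x 15) && mvs m (enc u) fun a => mvs m' (enc v) fun b => Nat.beq a b

variable {M : Type*} [Monoid M] {e : ℕ → M}

structure Cox (e : ℕ → M) : Prop where
  h0 : e 0 = 1
  sq : ∀ a < 16, e a * e a = 1
  cm : ∀ a < 16, ∀ b < 16, ad a b = false → e a * e b = e b * e a
  br : ∀ a < 16, ∀ b < 16, ad a b = true → e a * (e b * e a) = e b * (e a * e b)

noncomputable def vT (e : ℕ → M) (W : ℕ) : M := pw e (Nat.digits 16 W)

theorem vT_eq (h : e 0 = 1) (W : ℕ) : vT e W = e (W % 16) * vT e (W / 16) := by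
  rcases Nat.eq_zero_or_pos W with rfl | hW
  · simp [h]
  · rw [vT, Nat.digits_def' (by norm_num) hW, pw_cons]; rfl

theorem vT_add (h : e 0 = 1) {x : ℕ} (hx : x < 16) (W : ℕ) : vT e (x + 16 * W) = e x * vT e W := by
  rw [vT_eq h, Nat.add_mul_mod_self_left, Nat.mod_eq_of_lt hx,
    Nat.add_mul_div_left _ _ (by norm_num), Nat.div_eq_of_lt hx, zero_add]

theorem vT_hd (C : Cox e) (r : ℕ) : vT e (hd3 (r % 16) (r / 16 % 16) r) = vT e r := by
  have ha : r % 16 < 16 := Nat.mod_lt _ (by norm_num)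
  have hb : r / 16 % 16 < 16 := Nat.mod_lt _ (by norm_num)
  have e1 := vT_eq C.h0 r
  have e2 := vT_eq C.h0 (r / 16)
  have e3 := vT_eq C.h0 (r / 16 / 16)
  generalize r % 16 = a at *
  generalize r / 16 % 16 = b at *
  unfold hd3
  cases h1 : Nat.beq a b with
  | true =>
    obtain rfl := Nat.eq_of_beq_eq_true h1
    rw [e1, e2, ← mul_assoc, C.sq a ha, one_mul]
  | false =>
    cases h2 : ad a b with
    | false =>
      dsimp only
      rw [vT_add C.h0 hb, vT_add C.h0 ha, e1, e2, ← mul_assoc, ← mul_assoc, C.cm a ha b hb h2]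
    | true =>
      cases h3 : Nat.beq (r / 16 / 16 % 16) a with
      | false => rfl
      | true =>
        dsimp only
        rw [vT_add C.h0 hb, vT_add C.h0 ha, vT_add C.h0 hb, e1, e2, e3, Nat.eq_of_beq_eq_true h3]
        simpa only [mul_assoc] using congrArg (· * vT e (r / 16 / 16 / 16)) (C.br a ha b hb h2).symm

theorem vT_pre (h : e 0 = 1) {r r' : ℕ} (hr : vT e r = vT e r') (p : ℕ) :
    ∀ x < 16 ^ p, vT e (x + 16 ^ p * r) = vT e (x + 16 ^ p * r') := by
  induction p with
  | zero => intro x hx; obtain rfl : x = 0 := by simpa using hx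
            simpa using hr
  | succ p ih =>
    intro x hx
    have k : ∀ s, x + 16 ^ (p + 1) * s = x % 16 + 16 * (x / 16 + 16 ^ p * s) := fun s => by
      rw [mul_add, ← add_assoc, Nat.mod_add_div, pow_succ]; ring
    rw [k, k, vT_add h (Nat.mod_lt _ (by norm_num)), vT_add h (Nat.mod_lt _ (by norm_num)),
      ih _ (by rw [pow_succ] at hx; omega)]

theorem vT_mv (C : Cox e) (p W : ℕ) : vT e (mv p W) = vT e W := by
  rw [mv, vT_pre C.h0 (vT_hd C _) p _ (Nat.mod_lt _ (by positivity)), Nat.mod_add_div]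

theorem mvs_spec (C : Cox e) (l : List ℕ) : ∀ W k, mvs l W k = true →
    ∃ W', k W' = true ∧ vT e W' = vT e W := by
  induction l with
  | nil => exact fun W k h => ⟨W, h, rfl⟩
  | cons p l ih =>
    intro W k h
    obtain ⟨W', a, b⟩ := ih _ k ((frc_eq (mv p W) fun W' => mvs l W' k).symm.trans h)
    exact ⟨W', a, b.trans (vT_mv C p W)⟩

theorem vT_enc (h : e 0 = 1) (w : List ℕ) (hw : ∀ x ∈ w, x < 16) : vT e (enc w) = pw e w := by
  induction w with
  | nil => simp [vT, enc]
  | cons x w ih =>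
    rw [enc, vT_add h (hw x List.mem_cons_self), pw_cons,
      ih fun y hy => hw y (List.mem_cons_of_mem _ hy)]

theorem Cox.ceq (C : Cox e) {u v m m' : List ℕ} (h : ceq u v m m' = true) : pw e u = pw e v := by
  simp only [BM.ceq, Bool.and_eq_true, List.all_eq_true, Nat.ble_eq, List.mem_append] at h
  obtain ⟨a, a1, a2⟩ := mvs_spec C _ _ _ h.2
  obtain ⟨b, b1, b2⟩ := mvs_spec C _ _ _ a1
  rw [← vT_enc C.h0 u fun x hx => Nat.lt_succ_of_le (h.1 x (Or.inl hx)),
    ← vT_enc C.h0 v fun x hx => Nat.lt_succ_of_le (h.1 x (Or.inr hx)), ← a2, ← b2,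
    Nat.eq_of_beq_eq_true b1]

/-- for each letter a word `z` with `z A = A y` and `z B = B y` -/
noncomputable def zOK (A B : List ℕ)
    (c : List (ℕ × List ℕ × List ℕ × List ℕ × List ℕ × List ℕ)) : Bool :=
  c.all fun q => ceq (q.2.1 ++ A) (A ++ [q.1]) q.2.2.1 q.2.2.2.1 &&
    ceq (q.2.1 ++ B) (B ++ [q.1]) q.2.2.2.2.1 q.2.2.2.2.2

theorem Cox.z (C : Cox e) {A B sc : List ℕ}
    {c : List (ℕ × List ℕ × List ℕ × List ℕ × List ℕ × List ℕ)} (h : zOK A B c = true)
    (hs : ∀ y ∈ sc, y ∈ c.map Prod.fst) :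
    ∀ y ∈ sc, ∃ z, z * pw e A = pw e A * e y ∧ z * pw e B = pw e B * e y := by
  intro y hy
  obtain ⟨q, hq, rfl⟩ := List.mem_map.1 (hs y hy)
  have := List.all_eq_true.1 h q hq
  rw [Bool.and_eq_true] at this
  have a := C.ceq this.1
  have b := C.ceq this.2
  rw [pw_append, pw_append] at a b
  exact ⟨pw e q.2.1, by simpa [pw] using a, by simpa [pw] using b⟩

/-- the known relations -/
def Kn (e : ℕ → M) (P : List (List ℕ × List ℕ)) : Prop := ∀ p ∈ P, pw e p.1 = pw e p.2

def cmK (P : List (List ℕ × List ℕ)) (x y : ℕ) : Bool :=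
  x == y || P.contains ([x, y], [y, x]) || P.contains ([y, x], [x, y])

theorem Kn.cm {P : List (List ℕ × List ℕ)} (h : Kn e P) {x y : ℕ} (c : cmK P x y = true) :
    e x * e y = e y * e x := by
  simp only [cmK, Bool.or_eq_true, beq_iff_eq, List.contains_iff_mem] at c
  rcases c with (rfl | c) | c
  · rfl
  · simpa [pw] using h _ c
  · simpa [pw] using (h _ c).symm

theorem Kn.cw {P : List (List ℕ × List ℕ)} (h : Kn e P) {y : ℕ} {w : List ℕ}
    (c : ∀ x ∈ w, cmK P x y = true) : e y * pw e w = pw e w * e y := by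
  induction w with
  | nil => simp [pw]
  | cons x w ih =>
    rw [pw_cons, ← mul_assoc, ← h.cm (c x List.mem_cons_self), mul_assoc,
      ih fun z hz => c z (List.mem_cons_of_mem _ hz), mul_assoc]

theorem Kn.add {T : List Let} (h : okT T = true) {P rels : List (List ℕ × List ℕ)}
    (hP : Kn (eT T) P) {sc : List ℕ} {gs : List (List ℕ)} (hc : cov T sc (mkRs gs) = true)
    (hk : ∀ g ∈ gs, chk T rels g = true)
    (hs : (rels.all fun p => sc.all fun y => (p.1 ++ p.2).all fun x => cmK P x y) = true) :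
    Kn (eT T) (P ++ rels) := by
  intro p hp
  rcases List.mem_append.1 hp with hp | hp
  · exact hP p hp
  simp only [List.all_eq_true, List.mem_append] at hs
  exact rel_of h hc hk hp fun y hy => ⟨_, hP.cw fun x hx => hs p hp y hy x (Or.inl hx),
    hP.cw fun x hx => hs p hp y hy x (Or.inr hx)⟩

def coxK (P : List (List ℕ × List ℕ)) : Bool :=
  (List.range' 1 11).all fun a => P.contains ([a, a], []) && (List.range' 1 11).all fun b =>
    if ad a b then P.contains ([a, b, a], [b, a, b]) || P.contains ([b, a, b], [a, b, a])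
    else cmK P a b

theorem Kn.cox {P : List (List ℕ × List ℕ)} (h : Kn e P) (c : coxK P = true) (h0 : e 0 = 1)
    (h1 : ∀ x, 12 ≤ x → e x = 1) : Cox e := by
  simp only [coxK, List.all_eq_true, Bool.and_eq_true, List.mem_range'_1,
    List.contains_iff_mem] at c
  have k : ∀ a, (1 ≤ a ∧ a < 1 + 11) ∨ e a = 1 := fun a => by
    rcases Nat.eq_zero_or_pos a with rfl | ha
    · exact Or.inr h0
    · by_cases hb : a < 12
      · exact Or.inl ⟨ha, hb⟩
      · exact Or.inr (h1 a (by omega))
  refine ⟨h0, fun a _ => ?_, fun a _ b _ hab => ?_, fun a ha b hb hab => ?_⟩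
  · rcases k a with ka | ka
    · simpa [pw] using h _ (c a ka).1
    · rw [ka, one_mul]
  · rcases k a with ka | ka
    · rcases k b with kb | kb
      · have := (c a ka).2 b kb
        rw [hab] at this
        exact h.cm this
      · rw [kb, one_mul, mul_one]
    · rw [ka, one_mul, mul_one]
  · have k' : ∀ a < 16, ∀ b < 16, ad a b = true → (1 ≤ a ∧ a < 1 + 11) ∧ 1 ≤ b ∧ b < 1 + 11 := by
      decide +kernel
    have := (c a (k' a ha b hb hab).1).2 b (k' a ha b hb hab).2
    rw [if_pos hab, Bool.or_eq_true, List.contains_iff_mem, List.contains_iff_mem] at this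
    rcases this with this | this
    · simpa [pw] using h _ this
    · simpa [pw] using (h _ this).symm

theorem all_app {α : Type} {p : α → Bool} {a b : List α} (h1 : alL p a = true)
    (h2 : ∀ x ∈ b, p x = true) : ∀ x ∈ a ++ b, p x = true := fun x hx =>
  (List.mem_append.1 hx).elim (alL_spec h1 x) (h2 x)

end Cfsg.Agent.BM
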