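/-!
Bit-sliced evaluation of linear maps on 4370 coordinates over the field with two elements: a number
holds 128 vectors, bit `128 * i + t` is coordinate `i` of vector `t`.  These are the functions the
kernel evaluates.
-/

set_option autoImplicit false

namespace Cfsg.Agent.BM

noncomputable def frc (a : Nat) (k : Nat → Bool) : Bool :=
  Nat.rec (motive := fun _ => Bool) (k (nat_lit 0)) (fun n _ => k (Nat.succ n)) a

noncomputable def alL {α : Type} (p : α → Bool) (l : List α) : Bool :=
  List.rec (motive := fun _ => Bool) true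
    (fun a _ ih => Bool.rec (motive := fun _ => Bool) false ih (p a)) l

def low (k : Nat) : Nat := Nat.sub (Nat.shiftLeft (nat_lit 1) k) (nat_lit 1)

def msk (k : Nat) : Nat := low (Nat.mul k (nat_lit 128))

def cut (X k : Nat) : Nat := Nat.land X (msk k)

def sR (X k : Nat) : Nat := Nat.shiftRight X (Nat.mul k (nat_lit 128))

def sL (X k : Nat) : Nat := Nat.shiftLeft X (Nat.mul k (nat_lit 128))

/-- `k` digits one in base `2 ^ w` -/
def rp (w k : Nat) : Nat := Nat.div (low (Nat.mul w k)) (low w)

def on : Nat := rp (nat_lit 128) (nat_lit 600)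

def sp0 (a : Nat) : Nat :=
  Nat.land (Nat.mul (rp (nat_lit 127) (nat_lit 69)) a) (rp (nat_lit 128) (nat_lit 69))

def spn (h : Nat) (f : Nat → Nat) (a : Nat) : Nat :=
  Nat.xor (f (Nat.land a (low h))) (sL (f (Nat.shiftRight a h)) h)

/-- the mask of the coordinates in `a`, for all vectors -/
def fm (a : Nat) : Nat :=
  Nat.mul (spn (nat_lit 2208) (spn (nat_lit 1104) (spn (nat_lit 552) (spn (nat_lit 276)
    (spn (nat_lit 138) (spn (nat_lit 69) sp0))))) a) (low (nat_lit 128))

/-- the coordinates in the mask move up or down -/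
inductive Lay : Type
  | nil : Lay
  | up (a s : Nat) (tl : Lay) : Lay
  | dn (a s : Nat) (tl : Lay) : Lay

noncomputable def lay (l : Lay) (X : Nat) : Nat :=
  Lay.rec (motive := fun _ => Nat) (nat_lit 0)
    (fun a s _ ih => Nat.xor (sL (Nat.land X (fm a)) s) ih)
    (fun a s _ ih => Nat.xor (sR (Nat.land X (fm a)) s) ih) l

def lf (Z t Y : Nat) : Nat :=
  Nat.xor (Nat.xor (Nat.xor (Nat.mul (Nat.land (Nat.shiftRight Z (Nat.add t (nat_lit 0))) on)
      (Nat.land Y (nat_lit 0xffffffffffffffffffffffffffffffff)))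
    (Nat.mul (Nat.land (Nat.shiftRight Z (Nat.add t (nat_lit 1))) on)
      (Nat.land (Nat.shiftRight Y (nat_lit 128)) (nat_lit 0xffffffffffffffffffffffffffffffff))))
    (Nat.xor (Nat.mul (Nat.land (Nat.shiftRight Z (Nat.add t (nat_lit 2))) on)
      (Nat.land (Nat.shiftRight Y (nat_lit 256)) (nat_lit 0xffffffffffffffffffffffffffffffff)))
    (Nat.mul (Nat.land (Nat.shiftRight Z (Nat.add t (nat_lit 3))) on)
      (Nat.land (Nat.shiftRight Y (nat_lit 384)) (nat_lit 0xffffffffffffffffffffffffffffffff)))))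
    (Nat.xor (Nat.xor (Nat.mul (Nat.land (Nat.shiftRight Z (Nat.add t (nat_lit 4))) on)
      (Nat.land (Nat.shiftRight Y (nat_lit 512)) (nat_lit 0xffffffffffffffffffffffffffffffff)))
    (Nat.mul (Nat.land (Nat.shiftRight Z (Nat.add t (nat_lit 5))) on)
      (Nat.land (Nat.shiftRight Y (nat_lit 640)) (nat_lit 0xffffffffffffffffffffffffffffffff))))
    (Nat.xor (Nat.mul (Nat.land (Nat.shiftRight Z (Nat.add t (nat_lit 6))) on)
      (Nat.land (Nat.shiftRight Y (nat_lit 768)) (nat_lit 0xffffffffffffffffffffffffffffffff)))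
    (Nat.mul (Nat.land (Nat.shiftRight Z (Nat.add t (nat_lit 7))) on)
      (Nat.land (Nat.shiftRight Y (nat_lit 896)) (nat_lit 0xffffffffffffffffffffffffffffffff)))))

noncomputable def nz (Y a b : Nat) : Nat :=
  Bool.rec (motive := fun _ => Nat) a b (Nat.beq Y (nat_lit 0))

noncomputable def nd (h : Nat) (f : Nat → Nat → Nat) (t Y : Nat) : Nat :=
  Nat.xor (nz (cut Y h) (f t (cut Y h)) (nat_lit 0))
    (nz (sR Y h) (f (Nat.add t h) (sR Y h)) (nat_lit 0))

/-- 128 coordinates times the 128 rows interleaved in `Z` -/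
noncomputable def bm (Z Y : Nat) : Nat :=
  nd (nat_lit 64) (nd (nat_lit 32) (nd (nat_lit 16) (nd (nat_lit 8) (lf Z)))) (nat_lit 0) Y

noncomputable def grp (Zs : List Nat) : Nat → Nat :=
  List.rec (motive := fun _ => Nat → Nat) (fun _ => nat_lit 0)
    (fun Z _ ih Y => Nat.xor (bm Z (cut Y (nat_lit 128))) (ih (sR Y (nat_lit 128)))) Zs

/-- ranges of coordinates -/
inductive Rg : Type
  | nil : Rg
  | cons (o l : Nat) (tl : Rg) : Rg

noncomputable def gat (r : Rg) (X : Nat) : Nat :=
  Rg.rec (motive := fun _ => Nat) (nat_lit 0)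
    (fun o l _ ih => Nat.xor (cut (sR X o) l) (sL ih l)) r

noncomputable def sca (r : Rg) : Nat → Nat :=
  Rg.rec (motive := fun _ => Nat → Nat) (fun _ => nat_lit 0)
    (fun o l _ ih Y => Nat.xor (sL (cut Y l) o) (ih (sR Y l))) r

/-- blocks -/
inductive Jobs : Type
  | nil : Jobs
  | cons (r : Rg) (Zs : List Nat) (tl : Jobs) : Jobs

noncomputable def jobs (j : Jobs) (X : Nat) : Nat :=
  Jobs.rec (motive := fun _ => Nat) (nat_lit 0)
    (fun r Zs _ ih => nz (gat r X) (Nat.xor (sca r (grp Zs (gat r X))) ih) ih) j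

structure Let : Type where
  l : Lay
  j : Jobs

noncomputable def st0 (L : Let) (X : Nat) : Nat := Nat.xor X (Nat.xor (lay L.l X) (jobs L.j X))

noncomputable def step (L : Let) (X : Nat) : Nat := st0 L (cut X (nat_lit 4370))

noncomputable def get (T : List Let) (x : Nat) : Let :=
  List.rec (motive := fun _ => Nat → Let) (fun _ => ⟨Lay.nil, Jobs.nil⟩)
    (fun a _ ih x => Nat.rec (motive := fun _ => Let) a (fun y _ => ih y) x) T x

/-- apply a word, the last letter first -/
noncomputable def run (T : List Let) (X : Nat) (w : List Nat) : (Nat → Bool) → Bool :=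
  List.rec (motive := fun _ => (Nat → Bool) → Bool) (fun k => k X)
    (fun x _ ih k => ih fun Y => frc (step (get T x) Y) k) w

/-- unit vectors, given by the gaps between them -/
noncomputable def mk (g : List Nat) : Nat :=
  List.rec (motive := fun _ => Nat) (nat_lit 0)
    (fun a _ ih => sL (Nat.xor (Nat.shiftLeft ih (nat_lit 1)) (nat_lit 1)) a) g

noncomputable def len (g : List Nat) : Nat :=
  List.rec (motive := fun _ => Nat) (nat_lit 0) (fun _ _ ih => Nat.succ ih) g

noncomputable def chk (T : List Let) (rels : List (List Nat × List Nat)) (g : List Nat) : Bool :=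
  Bool.rec (motive := fun _ => Bool) false
    (frc (mk g) fun X => alL (fun p => run T X p.1 fun Y => run T X p.2 fun Y' => Nat.beq Y Y') rels)
    (Nat.ble (len g) (nat_lit 128))

noncomputable def mkR (g : List Nat) : Nat :=
  List.rec (motive := fun _ => Nat) (nat_lit 0)
    (fun a _ ih => Nat.shiftLeft (Nat.lor ih (nat_lit 1)) a) g

noncomputable def mkRs (gs : List (List Nat)) : Nat :=
  List.rec (motive := fun _ => Nat) (nat_lit 0) (fun g _ ih => Nat.lor (mkR g) ih) gs

noncomputable def orM (l : Lay) : Nat :=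
  Lay.rec (motive := fun _ => Nat) (nat_lit 0) (fun a _ _ ih => Nat.lor a ih)
    (fun a _ _ ih => Nat.lor a ih) l

/-- the coordinates that lie in two masks -/
noncomputable def bad (l : Lay) : Nat :=
  Lay.rec (motive := fun _ => Nat) (nat_lit 0) (fun a _ tl ih => Nat.lor (Nat.land a (orM tl)) ih)
    (fun a _ tl ih => Nat.lor (Nat.land a (orM tl)) ih) l

noncomputable def img (l : Lay) (R : Nat) : Nat :=
  Lay.rec (motive := fun _ => Nat) (nat_lit 0)
    (fun a s _ ih => Nat.lor (Nat.shiftLeft (Nat.land R a) s) ih)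
    (fun a s _ ih => Nat.lor (Nat.shiftRight (Nat.land R a) s) ih) l

noncomputable def light (L : Let) : Bool :=
  Jobs.rec (motive := fun _ => Bool) true (fun _ _ _ _ => false) L.j

noncomputable def okT (T : List Let) : Bool :=
  alL (fun L => Nat.ble (orM L.l) (low (nat_lit 4370))) T

noncomputable def cov (T : List Let) (sc : List Nat) : Nat → Bool :=
  List.rec (motive := fun _ => Nat → Bool)
    (fun R => Nat.beq (Nat.land R (low (nat_lit 4370))) (low (nat_lit 4370)))
    (fun y _ ih R => Bool.rec (motive := fun _ => Bool) false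
      (frc (Nat.lor R (img (get T y).l (Nat.xor R (Nat.land R (bad (get T y).l))))) ih)
      (light (get T y))) sc

end Cfsg.Agent.BM
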