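import Cfsg.Agent.BM.Defs
import Cfsg.Agent.H57.Bits
import Cfsg.Agent.H17.Dig

/-! Meaning of the bit-sliced programs as linear maps. -/

set_option autoImplicit false
set_option exponentiation.threshold 5000

namespace Cfsg.Agent.BM

open Cfsg.Agent.H57 (bit bit_xor bit_and bit_zero)
open Cfsg.Agent.H17 (dg dg_def dg_mul dg_rp dg_rp_mul dg_and)

abbrev Fn := ℕ → ZMod 2

abbrev En := Module.End (ZMod 2) Fn

theorem frc_eq (a : ℕ) (k : ℕ → Bool) : frc a k = k a := by cases a <;> rfl

theorem alL_spec {α : Type} {p : α → Bool} {l : List α} (h : alL p l = true) :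
    ∀ a ∈ l, p a = true := by
  induction l with
  | nil => simp
  | cons a l ih =>
    have h' : (Bool.rec (motive := fun _ => Bool) false (alL p l) (p a)) = true := h
    cases hb : p a with
    | false => rw [hb] at h'; exact absurd h' (by simp)
    | true =>
      rw [hb] at h'
      intro b hb'
      rcases List.mem_cons.1 hb' with rfl | h1
      · exact hb
      · exact ih h' b h1

theorem low_eq (k : ℕ) : low k = 2 ^ k - 1 := by
  show 1 <<< k - 1 = _
  rw [Nat.one_shiftLeft]

theorem rp_eq (w k : ℕ) : rp w k = H17.rp w k := by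
  rw [rp, low_eq, low_eq]; rfl

theorem tb_dg {w t : ℕ} (x i : ℕ) (ht : t < w) : x.testBit (w * i + t) = (dg w x i).testBit t := by
  rw [dg_def, Nat.testBit_mod_two_pow, Nat.testBit_div_two_pow, add_comm]
  simp [ht]

theorem tb_one (u : ℕ) : Nat.testBit 1 u = decide (u = 0) := by
  cases u with
  | zero => rfl
  | succ u => simp [Nat.testBit_succ]

/-- vector number `t` -/
def vec (X t : ℕ) : Fn := fun i => bit X (128 * i + t)

def Lin (f : ℕ → ℕ) (φ : En) : Prop := ∀ X t, t < 128 → vec (f X) t = φ (vec X t)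

def EL (f : ℕ → ℕ) : Prop := ∃ φ, Lin f φ

theorem vec_xor (X Y t : ℕ) : vec (Nat.xor X Y) t = vec X t + vec Y t :=
  funext fun _ => bit_xor _ _ _

theorem vec_zero (t : ℕ) : vec 0 t = 0 := funext fun _ => bit_zero _

def mask (p : ℕ → Bool) : En where
  toFun v i := if p i then v i else 0
  map_add' v w := by ext i; by_cases h : p i <;> simp [h]
  map_smul' c v := by ext i; by_cases h : p i <;> simp [h]

def shR (s : ℕ) : En where
  toFun v i := v (i + s)
  map_add' _ _ := rfl
  map_smul' _ _ := rfl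

def shL (s : ℕ) : En where
  toFun v i := if s ≤ i then v (i - s) else 0
  map_add' v w := by ext i; by_cases h : s ≤ i <;> simp [h]
  map_smul' c v := by ext i; by_cases h : s ≤ i <;> simp [h]

theorem lin_land {M : ℕ} {p : ℕ → Bool} (h : ∀ i t, t < 128 → M.testBit (128 * i + t) = p i) :
    Lin (fun X => Nat.land X M) (mask p) := fun X t ht => by
  funext i
  show bit (X &&& M) _ = if p i then bit X _ else 0
  rw [bit_and, bit, bit, h i t ht]
  cases p i <;> simp

theorem lin_cut (k : ℕ) : Lin (fun X => cut X k) (mask fun i => decide (i < k)) :=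
  lin_land fun i t ht => by
    rw [msk, low_eq, Nat.testBit_two_pow_sub_one]
    show decide (_ < k * 128) = _
    congr 1
    apply propext
    omega

theorem lin_sR (k : ℕ) : Lin (fun X => sR X k) (shR k) := fun X t _ => by
  funext i
  show bit (X >>> (k * 128)) _ = bit X _
  rw [bit, bit, Nat.testBit_shiftRight, show k * 128 + (128 * i + t) = 128 * (i + k) + t by ring]

theorem lin_sL (k : ℕ) : Lin (fun X => sL X k) (shL k) := fun X t ht => by
  funext i
  show bit (X <<< (k * 128)) _ = if k ≤ i then bit X _ else 0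
  rw [bit, bit, Nat.testBit_shiftLeft]
  by_cases h : k ≤ i
  · rw [if_pos h, show 128 * i + t - k * 128 = 128 * (i - k) + t by omega,
      decide_eq_true (by omega : 128 * i + t ≥ k * 128), Bool.true_and]
  · rw [if_neg h, decide_eq_false (by omega : ¬ 128 * i + t ≥ k * 128), Bool.false_and]
    rfl

theorem Lin.comp {f g : ℕ → ℕ} {φ ψ : En} (a : Lin f φ) (b : Lin g ψ) :
    Lin (fun X => f (g X)) (φ * ψ) := fun X t ht => by
  rw [a _ t ht, b _ t ht]; rfl

theorem Lin.xor {f g : ℕ → ℕ} {φ ψ : En} (a : Lin f φ) (b : Lin g ψ) :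
    Lin (fun X => Nat.xor (f X) (g X)) (φ + ψ) := fun X t ht => by
  rw [vec_xor, a _ t ht, b _ t ht]; rfl

theorem lin_zero : Lin (fun _ => 0) 0 := fun _ t _ => vec_zero t

theorem lin_id : Lin (fun X => X) 1 := fun _ _ _ => rfl

theorem EL.comp {f g : ℕ → ℕ} (a : EL f) (b : EL g) : EL fun X => f (g X) :=
  let ⟨_, a⟩ := a; let ⟨_, b⟩ := b; ⟨_, a.comp b⟩

theorem EL.xor {f g : ℕ → ℕ} (a : EL f) (b : EL g) : EL fun X => Nat.xor (f X) (g X) :=
  let ⟨_, a⟩ := a; let ⟨_, b⟩ := b; ⟨_, a.xor b⟩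

theorem el_cut (k : ℕ) : EL fun X => cut X k := ⟨_, lin_cut k⟩
theorem el_sR (k : ℕ) : EL fun X => sR X k := ⟨_, lin_sR k⟩
theorem el_sL (k : ℕ) : EL fun X => sL X k := ⟨_, lin_sL k⟩
theorem el_zero : EL fun _ => 0 := ⟨_, lin_zero⟩

theorem EL.nz {f g h : ℕ → ℕ} (a : EL f) (b : EL g) (c : EL h) :
    EL fun X => nz (g X) (Nat.xor (f (g X)) (h X)) (h X) := by
  obtain ⟨φ, a⟩ := a
  obtain ⟨ψ, b⟩ := b
  obtain ⟨χ, c⟩ := c
  refine ⟨φ * ψ + χ, fun X t ht => ?_⟩
  rw [← ((a.comp b).xor c) X t ht]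
  unfold BM.nz
  dsimp only
  cases hb : Nat.beq (g X) (nat_lit 0) with
  | false => rfl
  | true =>
    rw [vec_xor, a _ t ht, Nat.eq_of_beq_eq_true hb]
    show vec (h X) t = φ (vec 0 t) + vec (h X) t
    rw [vec_zero, map_zero, zero_add]

theorem EL.nz0 {f g : ℕ → ℕ} (a : EL f) (b : EL g) : EL fun X => BM.nz (g X) (f (g X)) 0 := by
  have := a.nz b el_zero
  simpa only [show ∀ x : ℕ, Nat.xor x 0 = x from Nat.xor_zero] using this

def Sp (h : ℕ) (f : ℕ → ℕ) : Prop :=
  ∀ a < 2 ^ h, ∀ i t, t < 128 → (f a).testBit (128 * i + t) = (decide (t = 0) && a.testBit i)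

theorem sp_sp0 : Sp 69 sp0 := fun a ha i t ht => by
  show ((rp 127 69 * a) &&& rp 128 69).testBit _ = _
  rw [Nat.testBit_and, rp_eq, rp_eq, tb_dg (H17.rp 128 69) i ht, dg_rp (by norm_num)]
  by_cases hi : i < 69
  · rw [if_pos hi]
    by_cases h0 : t = 0
    · subst h0
      rw [show 128 * i + 0 = 127 * i + i by ring, tb_dg _ i (by omega),
        dg_rp_mul (by norm_num) (ha.trans (by norm_num)), if_pos hi]
      simp
    · simp [h0, tb_one]
  · rw [if_neg hi, Nat.testBit_lt_two_pow (x := a)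
      (ha.trans_le (Nat.pow_le_pow_right (by norm_num) (by omega)))]
    simp

theorem Sp.spn {h : ℕ} {f : ℕ → ℕ} (s : Sp h f) : Sp (h + h) (spn h f) := fun a ha i t ht => by
  show (f (a &&& low h) ^^^ (f (a >>> h) <<< (h * 128))).testBit _ = _
  rw [low_eq, Nat.and_two_pow_sub_one_eq_mod, Nat.testBit_xor, Nat.testBit_shiftLeft,
    s _ (Nat.mod_lt _ (by positivity)) i t ht, Nat.testBit_mod_two_pow]
  by_cases hi : i < h
  · simp [hi, show ¬ h * 128 ≤ 128 * i + t by omega]
  · rw [show 128 * i + t - h * 128 = 128 * (i - h) + t by omega, s _ (by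
      rw [Nat.shiftRight_eq_div_pow, Nat.div_lt_iff_lt_mul (by positivity), ← pow_add]; exact ha)
      _ t ht, Nat.testBit_shiftRight, show h + (i - h) = i by omega]
    simp [hi, show h * 128 ≤ 128 * i + t by omega]

theorem tb_fm {a : ℕ} (ha : a < 2 ^ 4416) (i t : ℕ) (ht : t < 128) :
    (fm a).testBit (128 * i + t) = a.testBit i := by
  have s := sp_sp0.spn.spn.spn.spn.spn.spn a ha
  have e : fm a = spn 2208 (spn 1104 (spn 552 (spn 276 (spn 138 (spn 69 sp0))))) a * low 128 := rfl
  change ∀ i t, t < 128 → (spn 2208 (spn 1104 (spn 552 (spn 276 (spn 138 (spn 69 sp0))))) a).testBit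
    (128 * i + t) = _ at s
  rw [e]
  generalize spn 2208 (spn 1104 (spn 552 (spn 276 (spn 138 (spn 69 sp0))))) a = x at s
  have d : ∀ j, dg 128 x j = if a.testBit j then 1 else 0 := fun j => by
    apply Nat.eq_of_testBit_eq
    intro u
    by_cases hu : u < 128
    · rw [← tb_dg _ _ hu, s j u hu]
      cases a.testBit j <;> simp [tb_one]
    · rw [Nat.testBit_lt_two_pow ((H17.dg_lt _ _ _).trans_le
        (Nat.pow_le_pow_right (by norm_num) (by omega))), Nat.testBit_lt_two_pow]
      exact lt_of_le_of_lt (by split_ifs <;> simp) (Nat.one_lt_two_pow (by omega))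
  rw [tb_dg _ _ ht, dg_mul, d, low_eq]
  · cases a.testBit i <;> simp [-Nat.reducePow, -Nat.reduceSub, ht]
  · intro j
    rw [d, low_eq]
    split_ifs <;> norm_num

theorem el_mul (Z k : ℕ) : EL fun Y => Nat.mul (Nat.land Z on)
    (Nat.land (Nat.shiftRight Y (128 * k)) (nat_lit 0xffffffffffffffffffffffffffffffff)) := by
  refine ⟨(LinearMap.proj k).smulRight fun i => bit (Z &&& on) (128 * i), fun Y t ht => ?_⟩
  funext i
  show bit ((Z &&& on) * ((Y >>> (128 * k)) &&& (2 ^ 128 - 1))) _ =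
    bit Y (128 * k + t) * bit (Z &&& on) (128 * i)
  have d : ∀ j, dg 128 (Z &&& on) j ≤ 1 := fun j => by
    rw [dg_and, on, rp_eq]
    refine Nat.and_le_right.trans ?_
    show dg 128 (H17.rp 128 600) j ≤ 1
    rw [dg_rp (by norm_num)]
    split_ifs <;> simp
  rw [Nat.and_two_pow_sub_one_eq_mod]
  have hc : Y >>> (128 * k) % 2 ^ 128 < 2 ^ 128 := Nat.mod_lt _ (by positivity)
  have e : (Y >>> (128 * k) % 2 ^ 128).testBit t = Y.testBit (128 * k + t) := by
    rw [Nat.testBit_mod_two_pow, Nat.testBit_shiftRight]; simp [ht]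
  generalize Y >>> (128 * k) % 2 ^ 128 = c at hc e
  rw [bit, bit, bit, tb_dg _ _ ht, dg_mul c fun j =>
    (Nat.mul_le_mul_right c (d j)).trans_lt (by rwa [one_mul]), ← e, ← add_zero (128 * i),
    tb_dg _ _ (by norm_num)]
  rcases Nat.le_one_iff_eq_zero_or_eq_one.1 (d i) with h | h <;> simp [h]

theorem el_lf (Z t : ℕ) : EL (lf Z t) :=
  (((el_mul _ 0).xor (el_mul _ 1)).xor ((el_mul _ 2).xor (el_mul _ 3))).xor
    (((el_mul _ 4).xor (el_mul _ 5)).xor ((el_mul _ 6).xor (el_mul _ 7)))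

theorem el_nd (h : ℕ) {f : ℕ → ℕ → ℕ} (a : ∀ t, EL (f t)) (t : ℕ) : EL (nd h f t) :=
  ((a t).nz0 (el_cut h)).xor ((a _).nz0 (el_sR h))

theorem el_bm (Z : ℕ) : EL (bm Z) := el_nd _ (el_nd _ (el_nd _ (el_nd _ (el_lf Z)))) _

theorem el_grp (Zs : List ℕ) : EL (grp Zs) := by
  induction Zs with
  | nil => exact el_zero
  | cons Z l ih => exact ((el_bm Z).comp (el_cut _)).xor (ih.comp (el_sR _))

theorem el_gat (r : Rg) : EL (gat r) := by
  induction r with
  | nil => exact el_zero
  | cons o l tl ih => exact ((el_cut l).comp (el_sR o)).xor ((el_sL l).comp ih)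

theorem el_sca (r : Rg) : EL (sca r) := by
  induction r with
  | nil => exact el_zero
  | cons o l tl ih => exact ((el_sL o).comp (el_cut l)).xor (ih.comp (el_sR l))

theorem el_jobs (j : Jobs) : EL (jobs j) := by
  induction j with
  | nil => exact el_zero
  | cons r Zs tl ih => exact ((el_sca r).comp (el_grp Zs)).nz (el_gat r) ih

noncomputable def fJ (j : Jobs) : En :=
  Jobs.rec (motive := fun _ => En) 0 (fun r Zs tl _ => (el_jobs (Jobs.cons r Zs tl)).choose) j

theorem lin_jobs (j : Jobs) : Lin (jobs j) (fJ j) := by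
  cases j with
  | nil => exact lin_zero
  | cons r Zs tl => exact (el_jobs (Jobs.cons r Zs tl)).choose_spec

noncomputable def fL (l : Lay) : En :=
  Lay.rec (motive := fun _ => En) 0 (fun a s _ ih => shL s * mask a.testBit + ih)
    (fun a s _ ih => shR s * mask a.testBit + ih) l

theorem lin_lay (l : Lay) (h : orM l < 2 ^ 4416) : Lin (lay l) (fL l) := by
  induction l with
  | nil => exact lin_zero
  | up a s tl ih =>
    exact ((lin_sL s).comp (lin_land (tb_fm (Nat.left_le_or.trans_lt h)))).xor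
      (ih (Nat.right_le_or.trans_lt h))
  | dn a s tl ih =>
    exact ((lin_sR s).comp (lin_land (tb_fm (Nat.left_le_or.trans_lt h)))).xor
      (ih (Nat.right_le_or.trans_lt h))

end Cfsg.Agent.BM
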