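import Cfsg.Agent.BM.G

set_option autoImplicit false
set_option maxRecDepth 100000
set_option Elab.async false

namespace Cfsg.Agent.BM

theorem k0_0 : alL (chk T r0) g0_0 = true := by decide +kernel

theorem k0_1 : alL (chk T r0) g0_1 = true := by decide +kernel

theorem k0_2 : alL (chk T r0) g0_2 = true := by decide +kernel

theorem k0_3 : alL (chk T r0) g0_3 = true := by decide +kernel

theorem k1_0 : alL (chk T r1) g1_0 = true := by decide +kernel

theorem k1_1 : alL (chk T r1) g1_1 = true := by decide +kernel

theorem k2_0 : alL (chk T r2) g2_0 = true := by decide +kernel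

theorem k3_0 : alL (chk T r3) g3_0 = true := by decide +kernel

end Cfsg.Agent.BM
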