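import Cfsg.Agent.BM.G

set_option autoImplicit false
set_option maxRecDepth 100000
set_option Elab.async false

namespace Cfsg.Agent.BM

theorem k4_0 : alL (chk T r4) g4_0 = true := by decide +kernel

theorem k4_1 : alL (chk T r4) g4_1 = true := by decide +kernel

theorem k5_0 : alL (chk T r5) g5_0 = true := by decide +kernel

theorem k6_0 : alL (chk T r6) g6_0 = true := by decide +kernel

theorem k7_0 : alL (chk T r7) g7_0 = true := by decide +kernel

theorem k7_1 : alL (chk T r7) g7_1 = true := by decide +kernel

theorem k8_0 : alL (chk T r8) g8_0 = true := by decide +kernel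

theorem k9_0 : alL (chk T r9) g9_0 = true := by decide +kernel

theorem k10_0 : alL (chk T r10) g10_0 = true := by decide +kernel

theorem k10_1 : alL (chk T r10) g10_1 = true := by decide +kernel

theorem k11_0 : alL (chk T r11) g11_0 = true := by decide +kernel

theorem k12_0 : alL (chk T r12) g12_0 = true := by decide +kernel

end Cfsg.Agent.BM
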