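import Cfsg.Agent.BM.G

set_option autoImplicit false
set_option maxRecDepth 100000
set_option Elab.async false

namespace Cfsg.Agent.BM

theorem k13_0 : alL (chk T r13) g13_0 = true := by decide +kernel

theorem k13_1 : alL (chk T r13) g13_1 = true := by decide +kernel

theorem k14_0 : alL (chk T r14) g14_0 = true := by decide +kernel

theorem k15_0 : alL (chk T r15) g15_0 = true := by decide +kernel

theorem k15_1 : alL (chk T r15) g15_1 = true := by decide +kernel

theorem k16_0 : alL (chk T r16) g16_0 = true := by decide +kernel

theorem k17_0 : alL (chk T r17) g17_0 = true := by decide +kernel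

theorem k18_0 : alL (chk T r18) g18_0 = true := by decide +kernel

theorem k19_0 : alL (chk T r19) g19_0 = true := by decide +kernel

theorem k20_0 : alL (chk T r20) g20_0 = true := by decide +kernel

theorem k21_0 : alL (chk T r21) g21_0 = true := by decide +kernel

theorem k22_0 : alL (chk T r22) g22_0 = true := by decide +kernel

theorem k23_0 : alL (chk T r23) g23_0 = true := by decide +kernel

theorem k24_0 : alL (chk T r24) g24_0 = true := by decide +kernel

end Cfsg.Agent.BM
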