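import Cfsg.Agent.BM.G

set_option autoImplicit false
set_option maxRecDepth 100000
set_option Elab.async false

namespace Cfsg.Agent.BM

theorem k25_0 : alL (chk T r25) g25_0 = true := by decide +kernel

theorem k25_1 : alL (chk T r25) g25_1 = true := by decide +kernel

theorem k25_2 : alL (chk T r25) g25_2 = true := by decide +kernel

theorem k25_3 : alL (chk T r25) g25_3 = true := by decide +kernel

theorem k25_4 : alL (chk T r25) g25_4 = true := by decide +kernel

end Cfsg.Agent.BM
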