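import Cfsg.Agent.BM.G

set_option autoImplicit false
set_option maxRecDepth 100000
set_option Elab.async false

namespace Cfsg.Agent.BM

theorem k26_0 : alL (chk T r26) g26_0 = true := by decide +kernel

theorem k26_1 : alL (chk T r26) g26_1 = true := by decide +kernel

theorem k26_2 : alL (chk T r26) g26_2 = true := by decide +kernel

theorem k26_3 : alL (chk T r26) g26_3 = true := by decide +kernel

theorem k26_4 : alL (chk T r26) g26_4 = true := by decide +kernel

end Cfsg.Agent.BM
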