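import Cfsg.Agent.BM.Cox
import Cfsg.Agent.BM.K1
import Cfsg.Agent.BM.K2
import Cfsg.Agent.BM.K3
import Cfsg.Agent.BM.K4
import Cfsg.Agent.BM.K5
import Cfsg.Agent.BM.K6
import Cfsg.Agent.H17.BmP

/-! The representation of the Baby Monster of degree 4370 over the field with two elements. -/

set_option autoImplicit false
set_option maxRecDepth 100000
set_option exponentiation.threshold 5000

namespace Cfsg.Agent.BM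

open Cfsg Cfsg.Agent.H58 Cfsg.Agent.H17

def P0 : List (List ℕ × List ℕ) := []

theorem n0 : Kn (eT T) P0 := fun _ h => absurd h (by simp [P0])

def P1 : List (List ℕ × List ℕ) := P0 ++ r0

theorem n1 : Kn (eT T) P1 :=
  Kn.add okT_T n0 cov0 (all_app k0_0 (all_app k0_1 (all_app k0_2 (all_app k0_3 (by simp))))) (by decide +kernel)

def P2 : List (List ℕ × List ℕ) := P1 ++ r1

theorem n2 : Kn (eT T) P2 :=
  Kn.add okT_T n1 cov1 (all_app k1_0 (all_app k1_1 (by simp))) (by decide +kernel)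

def P3 : List (List ℕ × List ℕ) := P2 ++ r2

theorem n3 : Kn (eT T) P3 :=
  Kn.add okT_T n2 cov2 (all_app k2_0 (by simp)) (by decide +kernel)

def P4 : List (List ℕ × List ℕ) := P3 ++ r3

theorem n4 : Kn (eT T) P4 :=
  Kn.add okT_T n3 cov3 (all_app k3_0 (by simp)) (by decide +kernel)

def P5 : List (List ℕ × List ℕ) := P4 ++ r4

theorem n5 : Kn (eT T) P5 :=
  Kn.add okT_T n4 cov4 (all_app k4_0 (all_app k4_1 (by simp))) (by decide +kernel)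

def P6 : List (List ℕ × List ℕ) := P5 ++ r5

theorem n6 : Kn (eT T) P6 :=
  Kn.add okT_T n5 cov5 (all_app k5_0 (by simp)) (by decide +kernel)

def P7 : List (List ℕ × List ℕ) := P6 ++ r6

theorem n7 : Kn (eT T) P7 :=
  Kn.add okT_T n6 cov6 (all_app k6_0 (by simp)) (by decide +kernel)

def P8 : List (List ℕ × List ℕ) := P7 ++ r7

theorem n8 : Kn (eT T) P8 :=
  Kn.add okT_T n7 cov7 (all_app k7_0 (all_app k7_1 (by simp))) (by decide +kernel)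

def P9 : List (List ℕ × List ℕ) := P8 ++ r8

theorem n9 : Kn (eT T) P9 :=
  Kn.add okT_T n8 cov8 (all_app k8_0 (by simp)) (by decide +kernel)

def P10 : List (List ℕ × List ℕ) := P9 ++ r9

theorem n10 : Kn (eT T) P10 :=
  Kn.add okT_T n9 cov9 (all_app k9_0 (by simp)) (by decide +kernel)

def P11 : List (List ℕ × List ℕ) := P10 ++ r10

theorem n11 : Kn (eT T) P11 :=
  Kn.add okT_T n10 cov10 (all_app k10_0 (all_app k10_1 (by simp))) (by decide +kernel)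

def P12 : List (List ℕ × List ℕ) := P11 ++ r11

theorem n12 : Kn (eT T) P12 :=
  Kn.add okT_T n11 cov11 (all_app k11_0 (by simp)) (by decide +kernel)

def P13 : List (List ℕ × List ℕ) := P12 ++ r12

theorem n13 : Kn (eT T) P13 :=
  Kn.add okT_T n12 cov12 (all_app k12_0 (by simp)) (by decide +kernel)

def P14 : List (List ℕ × List ℕ) := P13 ++ r13

theorem n14 : Kn (eT T) P14 :=
  Kn.add okT_T n13 cov13 (all_app k13_0 (all_app k13_1 (by simp))) (by decide +kernel)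

def P15 : List (List ℕ × List ℕ) := P14 ++ r14

theorem n15 : Kn (eT T) P15 :=
  Kn.add okT_T n14 cov14 (all_app k14_0 (by simp)) (by decide +kernel)

def P16 : List (List ℕ × List ℕ) := P15 ++ r15

theorem n16 : Kn (eT T) P16 :=
  Kn.add okT_T n15 cov15 (all_app k15_0 (all_app k15_1 (by simp))) (by decide +kernel)

def P17 : List (List ℕ × List ℕ) := P16 ++ r16

theorem n17 : Kn (eT T) P17 :=
  Kn.add okT_T n16 cov16 (all_app k16_0 (by simp)) (by decide +kernel)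

def P18 : List (List ℕ × List ℕ) := P17 ++ r17

theorem n18 : Kn (eT T) P18 :=
  Kn.add okT_T n17 cov17 (all_app k17_0 (by simp)) (by decide +kernel)

def P19 : List (List ℕ × List ℕ) := P18 ++ r18

theorem n19 : Kn (eT T) P19 :=
  Kn.add okT_T n18 cov18 (all_app k18_0 (by simp)) (by decide +kernel)

def P20 : List (List ℕ × List ℕ) := P19 ++ r19

theorem n20 : Kn (eT T) P20 :=
  Kn.add okT_T n19 cov19 (all_app k19_0 (by simp)) (by decide +kernel)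

def P21 : List (List ℕ × List ℕ) := P20 ++ r20

theorem n21 : Kn (eT T) P21 :=
  Kn.add okT_T n20 cov20 (all_app k20_0 (by simp)) (by decide +kernel)

def P22 : List (List ℕ × List ℕ) := P21 ++ r21

theorem n22 : Kn (eT T) P22 :=
  Kn.add okT_T n21 cov21 (all_app k21_0 (by simp)) (by decide +kernel)

def P23 : List (List ℕ × List ℕ) := P22 ++ r22

theorem n23 : Kn (eT T) P23 :=
  Kn.add okT_T n22 cov22 (all_app k22_0 (by simp)) (by decide +kernel)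

def P24 : List (List ℕ × List ℕ) := P23 ++ r23

theorem n24 : Kn (eT T) P24 :=
  Kn.add okT_T n23 cov23 (all_app k23_0 (by simp)) (by decide +kernel)

def P25 : List (List ℕ × List ℕ) := P24 ++ r24

theorem n25 : Kn (eT T) P25 :=
  Kn.add okT_T n24 cov24 (all_app k24_0 (by simp)) (by decide +kernel)

theorem eT_big (x : ℕ) (hx : 12 ≤ x) : eT T x = 1 := by
  rw [eT, get_eq, List.getD_eq_default _ _ hx, psi_nil]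

theorem cox : Cox (eT T) := n25.cox (by decide +kernel) psi_nil eT_big

theorem b25 : pw (eT T) ([3, 2, 4, 3, 5, 4, 6, 5, 8, 4, 3, 2, 9, 8, 4, 3, 5, 4, 6, 5, 8, 4, 3] ++ [2, 9, 8, 4, 3, 5, 4, 6, 5, 8, 4, 3, 2, 9, 8, 4, 3, 5, 4, 6, 5, 8, 4, 9, 8]) = 1 := by
  have := rel_of okT_T cov25 (all_app k25_0 (all_app k25_1 (all_app k25_2 (all_app k25_3 (all_app k25_4 (by simp)))))) (p := ([2, 9, 8, 4, 3, 5, 4, 6, 5, 8, 4, 3, 2, 9, 8, 4, 3, 5, 4, 6, 5, 8, 4, 9, 8], [3, 4, 8, 5, 6, 4, 5, 3, 4, 8, 9, 2, 3, 4, 8, 5, 6, 4, 5, 3, 4, 2, 3])) List.mem_cons_self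
    (cox.z (c := [(2, [8], [13, 14, 15, 12, 13, 11, 0, 1, 3, 4, 5, 6, 7, 8, 9, 11, 13, 15, 17, 18, 19, 20, 21, 22, 23, 24, 14, 12, 13, 10, 11, 12], [], [5, 0, 1, 3, 5, 7, 8, 9, 10, 11, 12, 13, 14, 15, 17, 19, 21, 4], []),
      (9, [2, 3, 2], [2, 19, 1, 2, 3, 5, 7, 9, 10, 11, 12, 13, 14, 15, 16, 17, 19, 21, 23, 18], [], [0, 2, 11, 12, 13, 10, 11, 9, 1, 2, 3, 4, 5, 6, 7, 9, 11, 13, 15, 16, 17, 18, 19, 20, 21, 22, 12, 10, 11, 8, 9, 10], []),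
      (5, [5], [21, 19, 5, 0, 1, 2, 3, 5, 7, 8, 9, 10, 12, 13, 14, 16, 17, 18, 19, 21, 23, 24, 20, 18, 4], [], [19, 3, 4, 0, 1, 3, 4, 6, 7, 8, 10, 11, 12, 14, 15, 16, 17, 19, 21, 22, 18, 3, 2], []),
      (10, [10], [0, 1, 2, 3, 4, 5, 6, 7, 8, 9, 10, 11, 12, 13, 14, 15, 16, 17, 18, 19, 20, 21, 22, 23, 24], [], [0, 1, 2, 3, 4, 5, 6, 7, 8, 9, 10, 11, 12, 13, 14, 15, 16, 17, 18, 19, 20, 21, 22], [])]) (by decide +kernel) (by decide))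
  rw [pw_append, this, ← pw_append]
  exact cox.ceq (v := []) (m := [22, 21, 20, 19, 18, 17, 16, 15, 14, 13, 12, 11, 10, 9, 8, 7, 6, 5, 4, 3, 2, 1, 0]) (m' := []) (by decide +kernel)

theorem b26 : pw (eT T) ([8, 4, 5, 6, 5, 4, 3, 4, 8, 4, 5, 4, 2, 3, 4, 8, 5, 4, 1, 2, 3, 4, 5, 6, 5, 4, 8] ++ [4, 3, 4, 5, 4, 1, 2, 3, 4, 8, 5, 4, 1, 2, 3, 4, 5, 6, 5, 4, 8, 1, 2, 3, 4, 5, 1, 2, 3, 4, 1, 2, 3, 1, 2, 1]) = 1 := by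
  have := rel_of okT_T cov26 (all_app k26_0 (all_app k26_1 (all_app k26_2 (all_app k26_3 (all_app k26_4 (by simp)))))) (p := ([4, 3, 4, 5, 4, 1, 2, 3, 4, 8, 5, 4, 1, 2, 3, 4, 5, 6, 5, 4, 8, 1, 2, 3, 4, 5, 1, 2, 3, 4, 1, 2, 3, 1, 2, 1], [8, 4, 5, 6, 5, 4, 3, 2, 1, 4, 5, 8, 4, 3, 2, 4, 5, 4, 8, 4, 3, 4, 5, 6, 5, 4, 8])) List.mem_cons_self
    (cox.z (c := [(1, [4, 5, 3, 4, 8, 4, 5, 3, 4], [8, 7, 5, 7, 6, 4, 5, 6, 7, 8, 10, 12, 13, 14, 15, 17, 18, 20, 21, 22, 23, 24, 26, 27, 28, 30, 31, 33, 35, 1, 2], [35], [3, 5, 6, 7, 9, 5, 2, 3, 5, 7, 8, 4, 1, 2, 4, 6, 7, 8, 9, 11, 12, 13, 0, 2, 3, 4, 6, 7, 9, 10, 11, 12, 11, 12, 13, 10, 11, 9, 5, 6, 7, 9, 11, 13, 15, 16, 17, 18, 19, 20, 21, 22, 23, 24, 25, 26, 12, 10, 11, 8, 9, 10, 4, 5, 7, 8, 9, 3, 4, 5, 7, 8], []),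
      (11, [11], [0, 1, 2, 3, 4, 5, 6, 7, 8, 9, 10, 11, 12, 13, 14, 15, 16, 17, 18, 19, 20, 21, 22, 23, 24, 25, 26, 27, 28, 29, 30, 31, 32, 33, 34, 35], [], [0, 1, 2, 3, 4, 5, 6, 7, 8, 9, 10, 11, 12, 13, 14, 15, 16, 17, 18, 19, 20, 21, 22, 23, 24, 25, 26], []),
      (5, [5], [1, 3, 0, 1, 3, 5, 6, 8, 9, 10, 11, 12, 14, 15, 16, 17, 18, 19, 20, 21, 24, 25, 26, 23, 24, 22, 2, 0], [25, 26, 27, 24, 25, 23, 21, 23, 25, 27, 29, 30, 31, 32, 33, 34, 35], [16, 18, 0, 1, 3, 4, 6, 7, 8, 9, 11, 13, 14, 15, 16, 18, 20, 21, 23, 24, 26, 17, 15], []),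
      (10, [10], [0, 1, 2, 3, 4, 5, 6, 7, 8, 9, 10, 11, 12, 13, 14, 15, 16, 17, 18, 19, 20, 21, 22, 23, 24, 25, 26, 27, 28, 29, 30, 31, 32, 33, 34, 35], [], [0, 1, 2, 3, 4, 5, 6, 7, 8, 9, 10, 11, 12, 13, 14, 15, 16, 17, 18, 19, 20, 21, 22, 23, 24, 25, 26], [])]) (by decide +kernel) (by decide))
  rw [pw_append, this, ← pw_append]
  exact cox.ceq (v := []) (m := [26, 25, 24, 23, 22, 21, 20, 19, 18, 17, 16, 15, 14, 13, 12, 11, 10, 9, 8, 7, 6, 5, 4, 3, 2, 1, 0]) (m' := []) (by decide +kernel)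

theorem b27 : pw (eT T) ([8, 9, 11, 9, 4, 8, 9, 5, 4, 3, 4, 8, 9, 4, 5, 6, 5, 4, 8, 9, 5, 4, 3, 4, 8, 9, 11, 9, 5, 4, 8] ++ [9, 5, 4, 3, 4, 5, 6, 5, 4, 8, 9, 11, 4, 5, 4, 3, 4, 8, 9, 5, 4, 8, 5, 4, 3, 4, 5, 6, 4, 5, 4, 3]) = 1 := by
  have := rel_of okT_T cov27 (all_app k27_0 (all_app k27_1 (all_app k27_2 (all_app k27_3 (all_app k27_4 (by simp)))))) (p := ([9, 5, 4, 3, 4, 5, 6, 5, 4, 8, 9, 11, 4, 5, 4, 3, 4, 8, 9, 5, 4, 8, 5, 4, 3, 4, 5, 6, 4, 5, 4, 3], [8, 4, 5, 9, 11, 9, 8, 4, 3, 4, 5, 9, 8, 4, 5, 6, 5, 4, 9, 8, 4, 3, 4, 5, 9, 8, 4, 9, 11, 9, 8])) List.mem_cons_self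
    (cox.z (c := [(1, [1], [0, 1, 2, 3, 4, 5, 6, 7, 8, 9, 10, 11, 12, 13, 14, 15, 16, 17, 18, 19, 20, 21, 22, 23, 24, 25, 26, 27, 28, 29, 30, 31], [], [0, 1, 2, 3, 4, 5, 6, 7, 8, 9, 10, 11, 12, 13, 14, 15, 16, 17, 18, 19, 20, 21, 22, 23, 24, 25, 26, 27, 28, 29, 30], []),
      (11, [3, 4, 8, 9, 8, 4, 3], [2, 4, 5, 6, 5, 6, 8, 4, 6, 7, 12, 13, 14, 15, 16, 17, 11, 12, 13, 14, 15, 9, 11, 8, 9, 11, 13, 6, 7, 5, 3, 4, 5, 7, 9, 10, 11, 13, 15, 17, 19, 20, 21, 22, 23, 24, 25, 26, 27, 28, 29, 30, 31, 16, 14, 15, 12, 13, 14, 10, 12, 13, 8, 10, 11, 12, 6, 7, 8, 10, 11, 4, 5, 1, 2, 4, 0, 1, 2], [], [2, 4, 5, 1, 2, 4, 5, 7, 8, 9, 4, 5, 3, 1, 3, 5, 7, 8, 9, 10, 11, 13, 4, 0, 1, 2, 4, 6, 7, 8, 10, 11, 12, 13, 18, 19, 21, 11, 12, 6, 7, 8, 9, 5, 6, 7, 9, 10, 12, 14, 15, 16, 17, 18, 19, 21, 23, 24, 26, 27, 20, 18, 17, 11, 4,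 5, 7, 8, 9, 10, 7, 9, 3, 4, 5, 6, 7, 5, 4, 3, 1, 2], [27, 29, 30]),
      (5, [9, 11, 9], [2, 1, 2, 3, 4, 5, 6, 7, 8, 9, 10, 12, 13, 14, 15, 16, 17, 19, 20, 22, 24, 25, 27, 28], [28, 30, 31], [0, 2, 3, 4, 5, 7, 24, 25, 23, 18, 19, 21, 4, 5, 6, 3, 4, 1, 3, 4, 6, 8, 9, 11, 12, 14, 15, 16, 17, 19, 20, 21, 23, 25, 27, 28, 29, 30, 24, 22, 23, 20, 18, 17, 5, 0, 1, 3, 4, 2, 3, 1, 2], []),
      (10, [10], [0, 1, 2, 3, 4, 5, 6, 7, 8, 9, 10, 11, 12, 13, 14, 15, 16, 17, 18, 19, 20, 21, 22, 23, 24, 25, 26, 27, 28, 29, 30, 31], [], [0, 1, 2, 3, 4, 5, 6, 7, 8, 9, 10, 11, 12, 13, 14, 15, 16, 17, 18, 19, 20, 21, 22, 23, 24, 25, 26, 27, 28, 29, 30], [])]) (by decide +kernel) (by decide))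
  rw [pw_append, this, ← pw_append]
  exact cox.ceq (v := []) (m := [30, 29, 28, 27, 26, 25, 24, 23, 22, 21, 20, 19, 18, 17, 16, 15, 14, 13, 12, 11, 10, 9, 8, 7, 6, 5, 4, 3, 2, 1, 0]) (m' := []) (by decide +kernel)

theorem rs : pw (eT T) [4, 5, 6, 4, 3, 2, 4, 8, 9, 4, 5, 6, 4, 3, 2, 4, 8, 9, 4, 5, 6, 4, 3, 2, 4, 8, 9, 4, 5, 6, 4, 3, 2, 4, 8, 9, 4, 5, 6, 4, 3, 2, 4, 8, 9, 4, 5, 6, 4, 3, 2, 4, 8, 9, 4, 5, 6, 4, 3, 2, 4, 8, 9, 4, 5, 6, 4, 3, 2, 4, 8, 9, 4, 5, 6, 4, 3, 2, 4, 8, 9, 4, 5, 6, 4, 3, 2, 4, 8, 9] = 1 := by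
  rw [cox.ceq (v := [2, 3] ++ (([3, 2, 4, 3, 5, 4, 6, 5, 8, 4, 3, 2, 9, 8, 4, 3, 5, 4, 6, 5, 8, 4, 3] ++ [2, 9, 8, 4, 3, 5, 4, 6, 5, 8, 4, 3, 2, 9, 8, 4, 3, 5, 4, 6, 5, 8, 4, 9, 8]) ++ ([3, 2, 5, 4, 8] ++ (([3, 2, 4, 3, 5, 4, 6, 5, 8, 4, 3, 2, 9, 8, 4, 3, 5, 4, 6, 5, 8, 4, 3] ++ [2, 9, 8, 4, 3, 5, 4, 6, 5, 8, 4, 3, 2, 9, 8, 4, 3, 5, 4, 6, 5, 8, 4, 9, 8]) ++ [8, 4, 5]))))
    (m := [83, 84, 85, 86, 81, 83, 84, 77, 78, 79, 80, 81, 82, 75, 77, 78, 79, 80, 82, 78, 79, 80, 81, 77, 65, 66, 67, 68, 69, 70, 71, 72, 74, 75, 77, 79, 80, 70, 71, 72, 73, 74, 75, 68, 70, 71, 72, 71, 70, 59, 60, 61, 62, 63, 64, 65, 67, 68, 62, 64, 65, 66, 57, 59, 60, 61, 62, 64, 60, 61, 62, 63, 59, 47, 48, 49, 50, 51, 52, 53, 54, 56, 57, 59, 61, 62, 52, 53, 54, 55, 56, 57, 50, 52, 53, 54, 45, 47, 48, 49, 50, 52, 48, 49, 50, 51, 47, 35, 36,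 37, 38, 39, 40, 41, 42, 44, 45, 47, 49, 50, 40, 41, 42, 43, 44, 45, 38, 40, 41, 42, 33, 35, 36, 37, 38, 40, 36, 37, 38, 39, 35, 23, 24, 25, 26, 27, 28, 29, 30, 32, 33, 35, 37, 38, 28, 29, 30, 31, 32, 33, 26, 28, 29, 30, 21, 23, 24, 25, 26, 28, 17, 18, 19, 20, 21, 22, 24, 15, 17, 18, 19, 20, 22, 11, 12, 13, 14, 15, 16, 18, 17, 16, 5, 6, 7, 8, 9, 10, 11, 13, 14, 8, 10, 11, 12, 3, 5, 6, 7, 8, 10, 6, 7, 8, 9, 5, 2, 3, 1]) (m' := [1, 0, 47, 48, 49, 50, 45, 46, 47, 45, 43, 41, 42, 43, 45, 47, 48, 50, 51, 53, 49, 51, 52, 53, 54, 55, 56, 57, 58, 60, 61, 62, 64, 51, 53, 55, 56, 57, 58, 59, 60, 61, 62, 54, 52, 46, 48, 49, 50, 51, 52, 54, 56, 57, 58, 59, 49, 50, 47, 44, 45, 46, 47, 49, 50, 52, 53, 54, 56, 57, 52, 40, 41, 42, 43, 44, 45, 46, 47, 49, 50, 52, 54, 55, 41, 42, 39, 41, 42, 44, 45, 46, 47, 48, 49, 50, 43, 37,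 38, 39, 41, 42, 43, 45, 46, 47, 37, 35, 37, 39, 40, 41, 42, 43, 45, 39, 33, 34, 35, 36, 37, 38, 39, 41, 37, 32, 31, 32, 34, 35, 36, 37, 39, 34, 31, 32, 33, 34, 29, 30, 31, 29, 27, 25, 26, 27, 29, 31, 32, 34, 35, 37, 38, 39, 41, 43, 44, 45, 47, 49, 50, 52, 53, 54, 55, 57, 59, 61, 62, 64, 65, 67, 76, 66, 67, 68, 69, 70, 71, 72, 73, 74, 76, 78, 80, 81, 63, 65, 67, 68, 69, 71, 72, 73, 74, 75, 76, 61, 60, 61, 63, 64, 65, 67, 68, 69, 71, 72, 73, 54, 55, 56, 57, 58, 59, 53, 54, 51, 53, 54, 56, 57, 58, 59, 61, 62, 63, 64, 65, 67, 68, 69, 62, 56, 57, 58, 59, 60, 62, 64, 65, 66, 67, 49, 48, 49, 51, 52, 53, 54, 56, 57, 58, 60, 61, 62, 64, 65, 60, 44, 45, 46, 47, 42, 44, 45, 46, 47, 49, 50, 51, 52, 53, 54, 56, 57, 58, 60, 62, 63, 51, 52, 53, 54, 55, 56, 57, 58, 50, 44, 45, 46, 47, 48, 50, 52, 53, 54, 55, 40, 41, 42, 44,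 45, 46, 48, 49, 50, 52, 53, 48, 33, 35, 36, 37, 38, 39, 40, 41, 42, 44, 45, 46, 48, 50, 51, 37, 35, 37, 39, 40, 41, 42, 43, 44, 45, 46, 38, 36, 30, 32, 33, 34, 35, 36, 38, 40, 41, 42, 43, 33, 34, 31, 28, 29, 30, 31, 33, 34, 36, 37, 38, 40, 41, 36, 21, 22, 23, 24, 25, 26, 27, 28, 29, 30, 31, 33, 34, 36, 38, 39, 25, 26, 23, 25, 26, 28, 29, 30, 31, 32, 33, 34, 27, 22, 23, 25, 26, 27, 29, 30, 31, 20, 21, 19, 17, 18, 19, 21, 23, 24, 25, 26, 27, 29, 23, 18, 19, 20, 21, 22, 23, 25, 21, 15, 16, 18, 19, 20, 21, 23, 18, 15, 16, 17, 18, 13, 14, 15, 13, 11, 13, 15, 16, 18, 19, 21, 22, 23, 25, 27, 28, 29, 31, 33, 34, 36, 37, 38, 39, 41, 43, 45, 46, 48, 49, 50, 51, 53, 55, 57, 58, 60, 61, 62, 63, 65, 67, 69, 70, 72, 73, 75, 76, 78, 79, 80, 81, 83, 92, 90, 91, 88, 89, 90]) (by decide +kernel), pw_append, pw_append _ (_ ++ _),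 b25, one_mul, pw_append,
    pw_append _ (_ ++ _), b25, one_mul, ← pw_append, ← pw_append]
  exact cox.ceq (v := []) (m := [1, 0, 2, 1, 0]) (m' := []) (by decide +kernel)

theorem rf2 : pw (eT T) [4, 5, 6, 3, 2, 1, 8, 4, 5, 6, 3, 2, 1, 8, 4, 5, 6, 3, 2, 1, 8, 4, 5, 6, 3, 2, 1, 8, 4, 5, 6, 3, 2, 1, 8, 4, 5, 6, 3, 2, 1, 8, 4, 5, 6, 3, 2, 1, 8, 4, 5, 6, 3, 2, 1, 8, 4, 5, 6, 3, 2, 1, 8] = 1 :=
  (cox.ceq (m := [61, 60, 54, 55, 56, 57, 58, 59, 58, 53, 54, 55, 56, 57, 47, 48, 49, 50, 51, 52, 53, 54, 55, 56, 44, 45, 46, 47, 48, 50, 51, 52, 54, 43, 44, 45, 46, 48, 33, 34, 35, 36, 37, 38, 40, 41, 42, 44, 32, 33, 34, 35, 36, 38, 39, 40, 42, 23, 24, 25, 26, 27, 28, 30, 31, 32, 34, 30, 22, 23, 24, 25, 26, 28, 5, 6, 7, 8, 9, 10, 12, 13, 14, 15, 16, 18, 19, 20, 22, 23, 24, 26, 27, 28, 30, 32, 33, 34, 36, 37, 38, 40, 41, 42,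 44, 46, 47, 48, 50, 52, 53, 54, 49, 43, 23, 24, 25, 26, 27, 28, 29, 30, 31, 32, 33, 34, 35, 37, 38, 39, 41, 43, 45, 46, 47, 49, 51, 52, 32, 33, 34, 35, 36, 37, 38, 39, 40, 41, 42, 43, 44, 30, 32, 33, 34, 35, 29, 30, 32, 33, 28, 15, 16, 17, 18, 19, 20, 21, 22, 23, 24, 26, 28, 30, 31, 32, 33, 35, 37, 38, 21, 22, 23, 24, 25, 26, 27, 28, 29, 31, 20, 18, 20, 22, 23, 14, 15, 16, 4, 5, 6, 7, 8, 10, 11, 12, 14, 15, 16, 18, 19, 20, 22, 23, 25, 26, 27, 29, 30, 31, 33, 34, 35, 37, 38, 40, 41, 42, 44, 45, 47, 48, 49, 51, 52, 54, 37, 38, 36, 34, 36, 38, 40, 41, 42, 43, 44, 45, 46, 39, 37, 32, 34, 35, 36, 37, 39, 41, 42, 43, 34, 35, 31, 32, 34, 35, 37, 38, 39, 41, 22, 23, 21, 19, 21, 23, 25, 26, 27, 28, 29, 30, 31, 32, 33, 24, 22, 17, 19, 20, 21, 22, 24, 26, 27, 28, 29, 19, 20, 16, 17, 19, 20, 22, 23, 24, 26, 27, 22, 7, 8,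 9, 10, 11, 12, 13, 14, 15, 16, 17, 19, 20, 22, 24, 25, 26, 27, 29, 31, 32, 33, 35, 36, 37, 38, 39, 41, 43, 45, 46, 48, 49, 50, 36, 14, 15, 16, 17, 18, 19, 20, 21, 22, 23, 24, 26, 27, 28, 29, 30, 32, 33, 34, 36, 38, 39, 13, 14, 15, 16, 12, 10, 12, 14, 15, 16, 18, 19, 20, 21, 22, 24, 6, 7, 8, 3, 4, 6, 7, 8, 10, 11, 12, 14, 15, 16, 18, 19, 20, 22, 23, 24, 26, 27, 28, 30, 31, 32, 34, 35, 36, 38, 39, 41, 42, 43, 45, 46, 48, 49, 50, 52, 53, 23, 24, 25, 26, 27, 28, 21, 23, 24, 25, 26, 20, 21, 23, 24, 19, 20, 21, 18, 19, 17, 15, 17, 19, 21, 22, 24, 26, 28, 30, 31, 32, 33, 34, 35, 36, 37, 38, 39, 40, 41, 42, 43, 29, 30, 31, 27, 28, 29, 25, 26, 27, 23, 24, 25, 14, 15, 16, 17, 13, 14, 11, 13, 14, 16, 17, 19, 20, 21, 22, 23, 24, 25, 27, 29, 31, 33, 34, 35, 36, 37, 38, 39, 32, 30, 19, 21, 22, 23, 24, 25, 16, 17, 18, 19, 21,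 22, 17, 15, 9, 11, 12, 13, 14, 15, 17, 19, 20, 21, 22, 24, 25, 27, 28, 29, 30, 32, 34, 35, 36, 27, 28, 12, 13, 14, 15, 16, 17, 18, 20, 11, 12, 8, 9, 11, 12, 14, 15, 16, 18, 19, 20, 22, 23, 24, 25, 27, 28, 30, 31, 32, 34, 30, 7, 8, 9, 10, 11, 12, 13, 14, 15, 16, 17, 6, 7, 8, 9, 5, 3, 5, 7, 8, 9, 11, 12, 13, 14, 15, 17, 18, 20, 21, 22, 23, 24, 25, 27, 28, 30, 32, 33, 34, 36, 38, 39, 41, 42, 43, 45, 46, 47, 48, 22, 23, 24, 25, 21, 12, 2, 3, 4, 5, 6, 8, 9, 10, 12, 14, 15, 16, 17, 18, 19, 21, 23, 24, 25, 27, 28, 29, 30, 31, 0, 2, 3, 4, 6, 7, 8, 10, 11, 12, 14, 15, 16, 17, 19, 20, 21, 23, 24, 25, 27, 28, 29, 31, 32, 34, 35, 36, 38, 39, 41, 42, 43, 45, 46, 47, 48, 50, 51, 52, 30, 32, 33, 34, 35, 29, 30, 32, 33, 28, 29, 30, 27, 28, 26, 24, 26, 28, 30, 31, 33, 35, 37, 38, 39, 40, 41, 42, 43, 44, 45, 47, 48, 49, 36, 37,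 34, 35, 32, 33, 23, 24, 25, 26, 22, 23, 20, 22, 23, 25, 26, 28, 29, 30, 31, 32, 33, 35, 37, 39, 40, 41, 42, 43, 45, 46, 47, 28, 30, 31, 32, 33, 25, 26, 27, 28, 30, 26, 24, 18, 20, 21, 22, 23, 24, 26, 28, 29, 30, 32, 33, 35, 36, 37, 39, 40, 41, 43, 44, 45, 35, 21, 22, 23, 24, 25, 26, 27, 20, 21, 17, 18, 20, 21, 23, 24, 25, 27, 28, 30, 31, 32, 33, 35, 37, 38, 39, 41, 42, 43, 31, 32, 33, 30, 23, 16, 17, 18, 20, 21, 23, 25, 26, 27, 28, 30, 32, 33, 35, 36, 37, 39, 40, 41, 42, 43, 45, 47, 49, 51, 36, 37, 38, 35, 36, 34, 15, 16, 17, 14, 15, 13, 11, 13, 15, 17, 19, 20, 21, 22, 23, 24, 25, 26, 27, 28, 29, 30, 31, 32, 34, 36, 38, 40, 41, 42, 43, 44, 45, 31, 32, 33, 34, 30, 31, 18, 19, 16, 17, 14, 15, 9, 11, 12, 13, 14, 15, 17, 19, 21, 22, 23, 24, 25, 26, 27, 28, 30, 31, 33, 34, 36, 37, 38, 40, 41, 42, 36, 27, 28, 29, 20,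 18, 11, 12, 13, 8, 9, 11, 12, 13, 15, 16, 17, 18, 20, 22, 23, 24, 25, 27, 28, 29, 31, 32, 33, 34, 36, 38, 39, 32, 33, 34, 31, 15, 16, 7, 8, 9, 11, 12, 13, 15, 16, 18, 19, 20, 22, 23, 25, 26, 27, 28, 29, 31, 33, 34, 36, 37, 38, 39, 41, 42, 44, 45, 47, 48, 49, 47, 21, 23, 24, 25, 26, 27, 28, 20, 21, 23, 24, 25, 26, 19, 20, 21, 23, 24, 18, 19, 17, 5, 7, 8, 9, 10, 11, 12, 13, 14, 15, 17, 19, 21, 22, 23, 24, 26, 28, 30, 31, 32, 33, 34, 35, 36, 38, 39, 40, 29, 27, 14, 15, 16, 17, 18, 19, 20, 22, 13, 14, 4, 5, 7, 8, 9, 10, 11, 13, 14, 16, 17, 18, 20, 21, 22, 24, 25, 26, 27, 29, 31, 32, 33, 34, 36, 24, 25, 16, 3, 4, 5, 7, 8, 9, 11, 12, 13, 14, 16, 18, 19, 20, 21, 22, 24, 25, 27, 28, 29, 31, 32, 34, 35, 36, 38, 39, 40, 42, 43, 44, 45, 47, 49, 43, 44, 45, 42, 30, 31, 29, 27, 8, 9, 10, 11, 12, 13, 14, 15, 16, 17, 18, 7,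 8, 9, 10, 6, 2, 3, 4, 6, 8, 9, 10, 12, 13, 14, 15, 16, 18, 19, 21, 22, 23, 24, 25, 26, 27, 29, 31, 33, 34, 26, 27, 1, 2, 4, 5, 6, 8, 9, 10, 12, 13, 14, 16, 17, 18, 19, 21, 22, 23, 24, 26, 27, 29, 30, 31, 33, 34, 36, 37, 38, 39, 40, 42, 44, 45, 47, 48, 38, 39, 40, 41, 42, 43, 37, 38, 39, 36, 22, 23, 24, 25, 21, 12, 0, 2, 3, 4, 5, 6, 8, 9, 10, 12, 14, 15, 16, 17, 18, 19, 21, 23, 24, 25, 27, 28, 29, 30, 31, 33, 34, 36, 38, 39, 41, 42, 43, 45, 46, 47, 42, 43, 44, 32, 33, 31, 29, 31, 33, 35, 36, 37, 38, 39, 40, 41, 42, 43, 34, 32, 27, 29, 30, 31, 32, 34, 36, 37, 38, 29, 30, 26, 27, 29, 30, 32, 33, 34, 36, 32, 25, 26, 27, 29, 30, 32, 34, 23, 25, 26, 27, 28, 29, 30, 22, 23, 25, 26, 27, 21, 22, 23, 25, 20, 21, 19, 17, 19, 21, 23, 24, 25, 27, 29, 30, 32, 33, 34, 36, 38, 40, 41, 42, 39, 40, 37, 38, 35, 36, 16, 14, 16,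 18, 19, 20, 21, 22, 23, 24, 25, 26, 27, 28, 17, 15, 13, 14, 15, 17, 19, 20, 21, 22, 23, 24, 18, 16, 12, 13, 14, 15, 16, 18, 20, 21, 11, 12, 13, 14, 10, 11, 8, 10, 11, 13, 14, 16, 17, 18, 20, 21, 23, 24, 26, 27, 28, 30, 31, 32, 33, 34, 35, 36, 38, 40, 39, 37, 38, 35, 36, 32, 30, 32, 34, 35, 33, 31, 29, 30, 31, 33, 32, 28, 29, 30, 31, 26, 28, 29, 23, 24, 25, 26, 24, 22, 7, 8, 9, 10, 11, 12, 6, 7, 8, 4, 6, 7, 8, 10, 11, 12, 14, 15, 16, 17, 18, 20, 21, 22, 24, 26, 27, 23, 19, 20, 21, 22, 18, 19, 16, 18, 19, 21, 11, 12, 13, 14, 15, 16, 18, 19, 17, 18, 7, 8, 9, 10, 11, 12, 13, 14, 15, 16, 17, 12, 14, 9, 10, 11, 12, 6, 7, 8, 9, 10, 11, 9, 7, 2, 4, 5, 6, 7, 4, 5, 1, 2, 4, 0, 1, 2]) (m' := []) (by decide +kernel)).trans b26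

theorem rf3 : pw (eT T) [4, 5, 6, 3, 8, 9, 11, 4, 5, 6, 3, 8, 9, 11, 4, 5, 6, 3, 8, 9, 11, 4, 5, 6, 3, 8, 9, 11, 4, 5, 6, 3, 8, 9, 11, 4, 5, 6, 3, 8, 9, 11, 4, 5, 6, 3, 8, 9, 11, 4, 5, 6, 3, 8, 9, 11, 4, 5, 6, 3, 8, 9, 11] = 1 :=
  (cox.ceq (m := [59, 60, 61, 44, 45, 46, 47, 48, 49, 51, 52, 53, 54, 55, 57, 41, 42, 43, 44, 45, 47, 48, 49, 50, 51, 53, 42, 43, 44, 45, 46, 48, 42, 43, 44, 27, 28, 29, 30, 31, 32, 34, 35, 36, 37, 38, 40, 42, 43, 44, 46, 47, 48, 39, 40, 42, 43, 38, 40, 41, 23, 24, 25, 26, 27, 29, 30, 31, 32, 33, 35, 36, 38, 39, 40, 41, 43, 45, 46, 28, 29, 30, 31, 32, 33, 35, 27, 28, 29, 30, 31, 33, 27, 28, 29, 13, 14, 15, 16, 17, 18, 20, 21, 22, 23, 25, 27, 28, 29, 31, 32, 33, 35, 37, 38, 39, 24, 25, 27, 28, 23, 25, 26, 9, 10, 11, 12, 13, 15, 16, 17, 18, 19, 21, 23, 24, 25, 26, 28, 30, 31, 20, 15,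 16, 17, 18, 20, 22, 23, 24, 11, 12, 13, 14, 16, 8, 9, 10, 12, 3, 4, 5, 6, 8, 10, 11, 12, 14, 15, 16, 18, 19, 20, 22, 23, 24, 26, 27, 28, 30, 31, 33, 34, 35, 37, 38, 39, 41, 42, 43, 45, 46, 48, 49, 51, 52, 53, 55, 56, 57, 59, 60, 45, 46, 47, 48, 49, 50, 51, 52, 53, 54, 44, 42, 44, 46, 40, 42, 43, 44, 46, 48, 49, 50, 51, 52, 54, 55, 57, 58, 59, 42, 39, 40, 42, 44, 45, 46, 48, 49, 50, 52, 53, 54, 55, 57, 58, 52, 54, 55, 56, 57, 51, 52, 54, 55, 56, 50, 51, 52, 54, 55, 44, 41, 42, 44, 46, 47, 48, 49, 50, 40, 42, 43, 44, 46, 47, 48, 42, 39, 40, 42, 44, 45, 46, 30, 31, 32, 29, 27, 29, 31, 32, 34, 35, 36, 37, 38, 39, 40, 25, 27, 28, 29, 31, 32, 34, 35, 36, 37, 27, 24, 25, 27, 29, 30, 31, 32, 34, 35, 15, 16, 17, 18, 19, 20, 21, 23, 24, 25, 13, 15, 16, 17, 18, 19, 21, 22, 12, 13, 15, 16, 17, 19, 20, 15, 2, 3, 4, 5, 6,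 7, 8, 9, 11, 12, 13, 15, 17, 18, 19, 20, 22, 24, 25, 27, 28, 29, 30, 31, 32, 34, 35, 37, 39, 40, 42, 43, 44, 45, 46, 48, 50, 52, 53, 54, 19, 20, 21, 22, 23, 18, 19, 16, 18, 19, 21, 22, 23, 25, 26, 27, 28, 29, 30, 31, 32, 34, 15, 16, 18, 19, 21, 22, 23, 25, 26, 27, 28, 29, 30, 32, 14, 12, 14, 16, 17, 18, 19, 21, 22, 23, 25, 26, 27, 28, 30, 31, 32, 34, 36, 37, 38, 39, 40, 41, 42, 44, 45, 46, 35, 33, 16, 17, 15, 13, 11, 12, 13, 15, 17, 19, 20, 21, 22, 23, 25, 26, 28, 29, 30, 31, 32, 33, 35, 37, 38, 39, 40, 42, 43, 24, 25, 23, 19, 20, 21, 10, 8, 10, 12, 13, 14, 15, 16, 17, 18, 19, 20, 21, 23, 25, 27, 28, 29, 30, 31, 20, 21, 17, 18, 11, 12, 9, 7, 8, 9, 11, 12, 14, 15, 16, 17, 18, 20, 21, 23, 24, 25, 27, 28, 17, 18, 19, 14, 15, 6, 7, 1, 2, 3, 4, 6, 7, 9, 10, 11, 12, 14, 15, 17, 18, 19, 21, 22, 23, 24, 25, 27, 28, 30,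 31, 33, 34, 35, 37, 38, 40, 41, 42, 43, 45, 46, 48, 49, 50, 52, 53, 48, 36, 37, 35, 33, 18, 19, 20, 17, 18, 16, 10, 11, 12, 3, 4, 5, 6, 7, 8, 9, 10, 11, 12, 14, 16, 18, 20, 22, 23, 24, 25, 26, 27, 28, 29, 30, 31, 32, 33, 35, 37, 39, 40, 41, 32, 33, 21, 19, 11, 12, 13, 14, 10, 11, 8, 2, 3, 4, 5, 6, 7, 8, 10, 11, 13, 14, 16, 17, 18, 19, 21, 23, 24, 25, 16, 17, 7, 8, 9, 0, 2, 3, 4, 5, 7, 8, 9, 11, 12, 13, 14, 16, 17, 19, 20, 21, 23, 24, 25, 27, 28, 29, 30, 32, 33, 35, 36, 37, 39, 40, 41, 43, 44, 45, 46, 48, 50, 51, 52, 24, 25, 26, 23, 24, 22, 20, 22, 24, 26, 28, 29, 30, 31, 32, 33, 34, 35, 36, 37, 38, 40, 41, 42, 43, 27, 28, 29, 30, 25, 26, 23, 24, 18, 20, 21, 22, 23, 24, 26, 28, 29, 30, 32, 33, 34, 35, 36, 38, 39, 20, 21, 22, 17, 18, 20, 21, 22, 24, 25, 26, 28, 29, 30, 32, 33, 34, 36, 37, 16, 17, 18, 19, 20, 15,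 13, 15, 17, 18, 19, 20, 22, 23, 24, 25, 26, 28, 29, 30, 32, 34, 35, 36, 37, 39, 41, 42, 43, 45, 46, 47, 48, 49, 51, 31, 23, 12, 13, 14, 15, 16, 18, 19, 20, 21, 23, 25, 26, 27, 28, 29, 31, 33, 34, 35, 10, 12, 13, 14, 16, 17, 18, 19, 21, 22, 23, 25, 26, 27, 29, 30, 31, 33, 34, 35, 37, 38, 39, 41, 42, 43, 45, 46, 47, 49, 50, 37, 21, 12, 9, 10, 12, 14, 15, 16, 17, 18, 19, 21, 23, 24, 25, 27, 28, 29, 30, 31, 33, 34, 35, 37, 39, 40, 41, 42, 43, 45, 47, 48, 49, 33, 34, 35, 36, 37, 38, 39, 32, 33, 31, 29, 31, 33, 35, 36, 37, 38, 39, 41, 42, 43, 44, 45, 46, 47, 34, 32, 27, 29, 30, 31, 32, 34, 36, 37, 38, 39, 41, 42, 43, 44, 45, 47, 29, 30, 26, 27, 29, 30, 32, 33, 34, 36, 37, 38, 39, 41, 42, 43, 45, 46, 41, 24, 25, 26, 27, 28, 23, 24, 22, 20, 21, 22, 24, 26, 27, 28, 30, 31, 32, 33, 34, 36, 37, 38, 39, 41, 43, 44, 45, 8,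 9, 10, 11, 12, 13, 14, 16, 17, 18, 19, 6, 8, 9, 10, 11, 12, 14, 15, 16, 17, 19, 20, 22, 23, 24, 26, 27, 28, 30, 31, 32, 34, 35, 36, 37, 39, 40, 41, 43, 44, 39, 30, 18, 20, 21, 22, 23, 24, 26, 27, 28, 30, 32, 33, 34, 35, 36, 37, 39, 41, 42, 43, 17, 18, 20, 21, 22, 24, 25, 26, 28, 29, 30, 32, 33, 34, 35, 37, 38, 39, 41, 42, 32, 33, 34, 35, 36, 31, 32, 33, 30, 31, 28, 29, 24, 25, 26, 27, 14, 15, 13, 14, 15, 17, 18, 19, 20, 21, 22, 23, 24, 25, 26, 27, 29, 31, 33, 35, 26, 27, 28, 29, 25, 26, 22, 23, 12, 13, 14, 15, 17, 18, 19, 20, 21, 22, 23, 25, 26, 28, 29, 31, 32, 33, 28, 29, 27, 18, 13, 14, 15, 16, 18, 20, 21, 22, 23, 24, 25, 27, 29, 28, 21, 22, 23, 19, 11, 12, 13, 14, 16, 17, 18, 19, 21, 22, 23, 25, 26, 27, 22, 23, 24, 25, 21, 22, 23, 20, 16, 11, 12, 13, 14, 15, 16, 18, 20, 22, 23, 15, 16, 9, 10, 11, 12, 13, 15,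 16, 18, 19, 20, 22, 21, 20, 18, 19, 3, 4, 5, 6, 7, 8, 9, 10, 11, 12, 13, 15, 14, 13, 8, 9, 10, 11, 4, 5, 7, 8, 10, 11, 6, 7, 8, 10, 3, 4, 5, 6, 7, 8, 2, 3, 4, 5, 6, 3, 4, 1, 2, 3]) (m' := []) (by decide +kernel)).trans b27

theorem rel0 : ∀ r ∈ BmP.rels0, pw (eT T) r = 1 := by
  intro r hr
  rw [← List.take_append_drop 55 BmP.rels0, List.mem_append] at hr
  rcases hr with hr | hr
  · have := List.all_eq_true.1 (show ((BmP.rels0.take 55).all fun r => ceq r [] [1, 0, 0] [] ||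
      ceq r [] [0, 2, 1, 0] []) = true by decide +kernel) r hr
    rw [Bool.or_eq_true] at this
    exact this.elim cox.ceq cox.ceq
  · change r ∈ [_, _, _] at hr
    simp only [List.mem_cons, List.not_mem_nil, or_false] at hr
    rcases hr with rfl | rfl | rfl
    exacts [rs, rf2, rf3]

theorem eT_sq (x : ℕ) : eT T x * eT T x = 1 := by
  by_cases h : x < 16
  · exact cox.sq x h
  · rw [eT_big x (by omega), one_mul]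

noncomputable def un (x : ℕ) : EFˣ := ⟨eT T x, eT T x, eT_sq x, eT_sq x⟩

theorem val_prod (r : List ℕ) : ((r.map un).prod : EFˣ).val = pw (eT T) r := by
  induction r with
  | nil => rfl
  | cons x r ih => rw [List.map_cons, List.prod_cons, Units.val_mul, ih, pw_cons]; rfl

theorem rule : RuleOK un BmP.rels0 BmP.iv where
  h0 := Units.ext psi_nil
  hinv x hx := by
    have : ∀ x < 64, ivf BmP.iv x = x ∨ (ivf BmP.iv x = 0 ∧ 12 ≤ x) := by decide +kernel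
    rcases this x hx with h | ⟨h, h'⟩
    · rw [h]; rfl
    · rw [h]; exact Units.ext (psi_nil.trans (eT_big x h').symm)
  hrel r hr := Units.ext ((val_prod r).trans (rel0 r hr))
  hlt := BmP.R0.hlt

theorem homM : homOK BmP.L (coxAll Spor.BabyMonster.edges ++ Spor.BabyMonster.extra) BmP.code BmP.iv
    BmP.rels0 [(0, 10), (95, 1), (87, 1), (77, 1), (65, 1), (51, 1), (101, 1), (35, 1), (17, 1), (105, 1), (109, 0), (95, 0), (0, 7), (81, 1), (71, 1), (59, 1), (45, 1), (91, 0), (29, 1), (11, 1), (93, 0), (97, 0), (87, 0), (81, 0), (0, 6), (69, 1), (57, 1), (43, 1), (83, 0), (27, 1), (9, 1), (85, 0), (89, 0), (77, 0), (71, 0), (69, 0), (0, 5), (55, 1), (41, 1), (73, 0), (25, 1), (7, 1), (75, 0), (79, 0), (65, 0), (59, 0), (57, 0), (55, 0), (0, 4), (39, 1), (61, 0), (23, 1), (5, 1), (63, 0), (67, 0), (51, 0), (45,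 0), (43, 0), (41, 0), (39, 0), (0, 3), (47, 0), (21, 1), (3, 1), (49, 0), (53, 0), (101, 0), (91, 1), (83, 1), (73, 1), (61, 1), (47, 1), (0, 8), (31, 1), (13, 1), (99, 0), (103, 0), (35, 0), (29, 0), (27, 0), (25, 0), (23, 0), (21, 0), (31, 0), (0, 2), (1, 1), (33, 0), (37, 0), (17, 0), (11, 0), (9, 0), (7, 0), (5, 0), (3, 0), (13, 0), (1, 0), (0, 1), (15, 0), (19, 0), (105, 0), (93, 1), (85, 1), (75, 1), (63, 1), (49, 1), (99, 1), (33, 1), (15, 1), (0, 9), (107, 0), (109, 1), (97, 1), (89, 1), (79, 1), (67, 1), (53, 1), (103, 1), (37, 1), (19, 1), (107, 1), (0, 11), (111, 0), (113, 0), (115, 0)] 12 = true := by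
  decide +kernel

theorem un_one : un 1 ≠ 1 := fun h => by
  obtain ⟨Y, a, b⟩ := run_spec okT_T (mk [12]) [1]
    (k := fun Y => Nat.beq (Nat.land (Nat.xor Y (mk [12])) (Nat.shiftLeft 1 (128 * 13)))
      (Nat.shiftLeft 1 (128 * 13))) (by decide +kernel)
  have c := congrFun (b 0 (by norm_num)) ⟨13, by norm_num⟩
  rw [← val_prod, List.map_singleton, List.prod_singleton, h, Units.val_one,
    Module.End.one_apply] at c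
  change vec Y 0 13 = vec (mk [12]) 0 13 at c
  unfold vec at c
  rw [add_zero] at c
  have d := congrArg (·.testBit (128 * 13)) (Nat.eq_of_beq_eq_true a)
  change ((Y ^^^ mk [12]) &&& 1 <<< (128 * 13)).testBit _ = (1 <<< (128 * 13)).testBit _ at d
  rw [Nat.one_shiftLeft, Nat.testBit_and, Nat.testBit_xor, Nat.testBit_two_pow_self,
    H57.bit_inj (x := Y) (y := mk [12]) (i := 128 * 13) (j := 128 * 13) c] at d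
  simp at d

theorem exists_rep : ∃ ρ : Spor.BabyMonster →* GL (Fin 4370) (ZMod 2), ρ (H17.BmP.el 1) ≠ 1 := by
  refine ⟨(Matrix.GeneralLinearGroup.toLin (n := Fin 4370) (R := ZMod 2)).symm.toMonoidHom.comp
    (coxHom _ _ rule (fun z => (BmP.hc z).2) homM), fun h => un_one ?_⟩
  rw [← coxHom_el _ _ rule (fun z => (BmP.hc z).2) homM (fun x hx => Units.ext (eT_big x hx)) 1]
  exact (MulEquiv.map_eq_one_iff
    (Matrix.GeneralLinearGroup.toLin (n := Fin 4370) (R := ZMod 2)).symm).1 h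

end Cfsg.Agent.BM
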