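import Cfsg.Agent.BM.Eng

/-! Soundness of the relation checks. -/

set_option autoImplicit false
set_option exponentiation.threshold 5000

namespace Cfsg.Agent.BM

open Cfsg.Agent.H57 (bit bit_xor bit_and bit_zero)

abbrev VF := Fin 4370 → ZMod 2

abbrev EF := Module.End (ZMod 2) VF

def res : Fn →ₗ[ZMod 2] VF := LinearMap.funLeft _ _ Fin.val

def ext0 : VF →ₗ[ZMod 2] Fn where
  toFun v i := if h : i < 4370 then v ⟨i, h⟩ else 0
  map_add' v w := by ext i; by_cases h : i < 4370 <;> simp [h]
  map_smul' c v := by ext i; by_cases h : i < 4370 <;> simp [h]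

theorem ext_res (v : Fn) : ext0 (res v) = mask (fun i => decide (i < 4370)) v := by
  funext i
  show (if h : i < 4370 then v i else 0) = if decide (i < 4370) = true then v i else 0
  by_cases h : i < 4370 <;> simp [h]

theorem res_ext (v : VF) : res (ext0 v) = v := by
  funext i
  exact dif_pos i.2

/-- the endomorphism of a letter -/
noncomputable def psi (L : Let) : EF := res ∘ₗ (1 + (fL L.l + fJ L.j)) ∘ₗ ext0

theorem psi_nil : psi ⟨Lay.nil, Jobs.nil⟩ = 1 := by
  refine LinearMap.ext fun v => ?_
  show res ((1 + (0 + 0) : En) (ext0 v)) = v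
  rw [add_zero, add_zero]
  exact res_ext v

theorem res_step {L : Let} (h : orM L.l < 2 ^ 4370) (X t : ℕ) (ht : t < 128) :
    res (vec (step L X) t) = psi L (res (vec X t)) := by
  have := ((lin_id.xor ((lin_lay L.l (h.trans (Nat.pow_lt_pow_right (by norm_num)
    (by norm_num)))).xor (lin_jobs L.j))).comp (lin_cut 4370)) X t ht
  refine (congrArg res this).trans ?_
  rw [psi, LinearMap.comp_apply, LinearMap.comp_apply, ext_res]
  rfl

theorem get_eq (T : List Let) (x : ℕ) : get T x = T.getD x ⟨Lay.nil, Jobs.nil⟩ := by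
  induction T generalizing x with
  | nil => rfl
  | cons a l ih => cases x with
    | zero => rfl
    | succ y => exact ih y

theorem ok_get {T : List Let} (h : okT T = true) (x : ℕ) : orM (get T x).l < 2 ^ 4370 := by
  rw [get_eq]
  rcases Nat.lt_or_ge x T.length with hx | hx
  · rw [List.getD_eq_getElem _ _ hx]
    have := Nat.le_of_ble_eq_true (alL_spec h _ (List.getElem_mem hx))
    rw [low_eq] at this
    exact this.trans_lt (Nat.sub_one_lt (by positivity))
  · rw [List.getD_eq_default _ _ hx]
    exact Nat.two_pow_pos _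

/-- the value of a word -/
noncomputable def pw {M : Type*} [Monoid M] (e : ℕ → M) (w : List ℕ) : M := (w.map e).prod

theorem pw_cons {M : Type*} [Monoid M] (e : ℕ → M) (x : ℕ) (w : List ℕ) :
    pw e (x :: w) = e x * pw e w := by simp [pw]

theorem pw_append {M : Type*} [Monoid M] (e : ℕ → M) (u w : List ℕ) :
    pw e (u ++ w) = pw e u * pw e w := by simp [pw]

noncomputable def eT (T : List Let) (x : ℕ) : EF := psi (get T x)

variable {T : List Let}

theorem run_spec (h : okT T = true) (X : ℕ) (w : List ℕ) {k : ℕ → Bool} (hk : run T X w k = true) :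
    ∃ Y, k Y = true ∧ ∀ t < 128, res (vec Y t) = pw (eT T) w (res (vec X t)) := by
  induction w generalizing k with
  | nil => exact ⟨X, hk, fun _ _ => rfl⟩
  | cons x w ih =>
    obtain ⟨Y, h1, h2⟩ := ih (k := fun Y => frc (step (get T x) Y) k) hk
    rw [frc_eq] at h1
    refine ⟨_, h1, fun t ht => ?_⟩
    rw [res_step (ok_get h x) _ t ht, h2 t ht, pw_cons]
    rfl

theorem shL_single (s i : ℕ) : shL s (Pi.single i 1) = Pi.single (i + s) 1 := by
  funext j
  show (if s ≤ j then Pi.single (M := fun _ => ZMod 2) i 1 (j - s) else 0) = _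
  rw [Pi.single_apply, Pi.single_apply]
  split_ifs <;> first | rfl | omega

theorem shR_single (s j : ℕ) : shR s (Pi.single (s + j) 1) = Pi.single j 1 := by
  funext k
  show Pi.single (M := fun _ => ZMod 2) (s + j) 1 (k + s) = _
  rw [Pi.single_apply, Pi.single_apply]
  split_ifs <;> first | rfl | omega

theorem mask_single (p : ℕ → Bool) (i : ℕ) :
    mask p (Pi.single i 1) = if p i then Pi.single i 1 else 0 := by
  funext j
  show (if p j then Pi.single (M := fun _ => ZMod 2) i 1 j else 0) = _
  by_cases h : j = i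
  · subst h; split_ifs <;> rfl
  · split_ifs <;> simp [h]

theorem mk_spec (g : List ℕ) : len g ≤ 128 → (∀ t, len g ≤ t → t < 128 → vec (mk g) t = 0) ∧
    ∀ j, (mkR g).testBit j = true → ∃ t < len g, vec (mk g) t = Pi.single j 1 := by
  induction g with
  | nil => exact fun _ => ⟨fun t _ _ => vec_zero t, fun j hj => absurd hj (by
      show ¬ Nat.testBit 0 j = true
      simp)⟩
  | cons a l ih =>
    intro h
    have hl : len (a :: l) = len l + 1 := rfl
    rw [hl] at h ⊢
    obtain ⟨h1, h2⟩ := ih (by omega)
    have e : ∀ t < 128, vec (mk (a :: l)) t = shL a (vec (Nat.xor (mk l <<< 1) 1) t) :=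
      fun t ht => lin_sL a _ t ht
    have e1 : ∀ t, vec (Nat.xor (mk l <<< 1) 1) (t + 1) = vec (mk l) t := fun t => by
      funext i
      show bit (_ ^^^ _) _ = bit _ _
      rw [bit_xor, bit, bit, bit, Nat.testBit_shiftLeft, tb_one]
      simp [← add_assoc]
    have e0 : vec (Nat.xor (mk l <<< 1) 1) 0 = Pi.single 0 1 := by
      funext i
      show bit (_ ^^^ _) _ = _
      rw [bit_xor, bit, bit, Nat.testBit_shiftLeft, tb_one]
      cases i with
      | zero => simp
      | succ i =>
        have : bit (mk l) (128 * i + 127) = 0 := congrFun (h1 127 (by omega) (by omega)) i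
        rw [bit] at this
        rw [show 128 * (i + 1) + 0 - 1 = 128 * i + 127 by omega]
        simpa [show 1 ≤ 128 * (i + 1) by omega] using this
    refine ⟨fun t a1 a2 => ?_, fun j hj => ?_⟩
    · obtain ⟨t, rfl⟩ : ∃ u, t = u + 1 := ⟨t - 1, by omega⟩
      rw [e _ a2, e1, h1 t (by omega) (by omega), map_zero]
    · change ((mkR l ||| 1) <<< a).testBit j = true at hj
      rw [Nat.testBit_shiftLeft, Nat.testBit_or, tb_one] at hj
      simp only [Bool.and_eq_true, decide_eq_true_eq, Bool.or_eq_true] at hj
      obtain ⟨j, rfl⟩ : ∃ u, j = u + a := ⟨j - a, by omega⟩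
      rw [Nat.add_sub_cancel] at hj
      rcases hj.2 with hj | rfl
      · obtain ⟨t, a1, a2⟩ := h2 j hj
        exact ⟨t + 1, by omega, by rw [e _ (by omega), e1, a2, shL_single]⟩
      · exact ⟨0, by omega, by rw [e _ (by omega), e0, shL_single]⟩

theorem chk_spec (h : okT T = true) {rels : List (List ℕ × List ℕ)} {g : List ℕ}
    (hk : chk T rels g = true) {p : List ℕ × List ℕ} (hp : p ∈ rels) {j : ℕ}
    (hj : (mkR g).testBit j = true) :
    pw (eT T) p.1 (res (Pi.single j 1)) = pw (eT T) p.2 (res (Pi.single j 1)) := by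
  unfold chk at hk
  cases hb : Nat.ble (len g) (nat_lit 128) with
  | false => rw [hb] at hk; exact absurd hk (by simp)
  | true =>
    rw [hb] at hk
    have hl : len g ≤ 128 := Nat.le_of_ble_eq_true hb
    obtain ⟨t, a1, a2⟩ := (mk_spec g hl).2 j hj
    obtain ⟨Y, b1, b2⟩ := run_spec h _ _ (alL_spec ((frc_eq _ _).symm.trans hk) p hp)
    obtain ⟨Y', c1, c2⟩ := run_spec h _ _ b1
    rw [← a2, ← b2 t (by omega), ← c2 t (by omega), Nat.eq_of_beq_eq_true c1]

theorem tb_mkRs {gs : List (List ℕ)} {j : ℕ} (h : (mkRs gs).testBit j = true) :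
    ∃ g ∈ gs, (mkR g).testBit j = true := by
  induction gs with
  | nil => exact absurd h (by show ¬ Nat.testBit 0 j = true; simp)
  | cons g l ih =>
    change (mkR g ||| mkRs l).testBit j = true at h
    rw [Nat.testBit_or, Bool.or_eq_true] at h
    rcases h with h | h
    · exact ⟨g, List.mem_cons_self, h⟩
    · obtain ⟨g', a, b⟩ := ih h
      exact ⟨g', List.mem_cons_of_mem _ a, b⟩

theorem fL_zero (l : Lay) {i : ℕ} (h : (orM l).testBit i = false) : fL l (Pi.single i 1) = 0 := by
  induction l with
  | nil => rfl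
  | up a s tl ih =>
    change (a ||| orM tl).testBit i = false at h
    rw [Nat.testBit_or, Bool.or_eq_false_iff] at h
    show shL s (mask a.testBit _) + fL tl _ = 0
    rw [ih h.2, mask_single, h.1]; simp
  | dn a s tl ih =>
    change (a ||| orM tl).testBit i = false at h
    rw [Nat.testBit_or, Bool.or_eq_false_iff] at h
    show shR s (mask a.testBit _) + fL tl _ = 0
    rw [ih h.2, mask_single, h.1]; simp

theorem img_spec (l : Lay) {R j : ℕ} (hR : ∀ i, R.testBit i = true → (bad l).testBit i = false)
    (hj : (img l R).testBit j = true) : ∃ i, R.testBit i = true ∧ (orM l).testBit i = true ∧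
      fL l (Pi.single i 1) = Pi.single j 1 := by
  induction l with
  | nil => exact absurd hj (by show ¬ Nat.testBit 0 j = true; simp)
  | up a s tl ih =>
    change (((R &&& a) <<< s) ||| img tl R).testBit j = true at hj
    change ∀ i, _ → ((a &&& orM tl) ||| bad tl).testBit i = false at hR
    change ∃ i, _ ∧ (a ||| orM tl).testBit i = true ∧ shL s (mask a.testBit _) + fL tl _ = _
    simp only [Nat.testBit_or, Nat.testBit_and, Nat.testBit_shiftLeft, Bool.or_eq_true,
      Bool.and_eq_true, decide_eq_true_eq, Bool.or_eq_false_iff, Bool.and_eq_false_imp] at hj hR ⊢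
    rcases hj with ⟨a1, a2, a3⟩ | hj
    · refine ⟨j - s, a2, Or.inl a3, ?_⟩
      rw [fL_zero tl ((hR _ a2).1 a3), mask_single, if_pos a3, shL_single, add_zero,
        Nat.sub_add_cancel a1]
    · obtain ⟨i, a1, a2, a3⟩ := ih (fun i hi => (hR i hi).2) hj
      refine ⟨i, a1, Or.inr a2, ?_⟩
      rw [a3, mask_single, if_neg fun e => by simp [(hR i a1).1 e] at a2, map_zero, zero_add]
  | dn a s tl ih =>
    change (((R &&& a) >>> s) ||| img tl R).testBit j = true at hj
    change ∀ i, _ → ((a &&& orM tl) ||| bad tl).testBit i = false at hR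
    change ∃ i, _ ∧ (a ||| orM tl).testBit i = true ∧ shR s (mask a.testBit _) + fL tl _ = _
    simp only [Nat.testBit_or, Nat.testBit_and, Nat.testBit_shiftRight, Bool.or_eq_true,
      Bool.and_eq_true, Bool.or_eq_false_iff, Bool.and_eq_false_imp] at hj hR ⊢
    rcases hj with ⟨a2, a3⟩ | hj
    · refine ⟨s + j, a2, Or.inl a3, ?_⟩
      rw [fL_zero tl ((hR _ a2).1 a3), mask_single, if_pos a3, shR_single, add_zero]
    · obtain ⟨i, a1, a2, a3⟩ := ih (fun i hi => (hR i hi).2) hj
      refine ⟨i, a1, Or.inr a2, ?_⟩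
      rw [a3, mask_single, if_neg fun e => by simp [(hR i a1).1 e] at a2, map_zero, zero_add]

theorem cov_spec (h : okT T = true) (W : Submodule (ZMod 2) VF) (sc : List ℕ)
    (hW : ∀ y ∈ sc, ∀ v ∈ W, eT T y v ∈ W) : ∀ R, cov T sc R = true →
    (∀ i, R.testBit i = true → res (Pi.single i 1) ∈ W) → W = ⊤ := by
  induction sc with
  | nil =>
    intro R hc hR
    have e : R &&& low 4370 = low 4370 := Nat.eq_of_beq_eq_true hc
    refine eq_top_iff.2 fun v _ => ?_
    rw [pi_eq_sum_univ v]
    refine W.sum_mem fun i _ => W.smul_mem _ ?_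
    have := congrArg (·.testBit i) e
    simp only [low_eq, Nat.testBit_and, Nat.testBit_two_pow_sub_one, i.2, decide_true,
      Bool.and_true] at this
    convert hR i this using 1
    funext j
    show _ = Pi.single (M := fun _ => ZMod 2) (i : ℕ) 1 (j : ℕ)
    simp [Pi.single_apply, Fin.ext_iff, eq_comm]
  | cons y l ih =>
    intro R hc hR
    change Bool.rec (motive := fun _ => Bool) false (frc (R ||| img (get T y).l
      (R ^^^ (R &&& bad (get T y).l))) (cov T l)) (light (get T y)) = true at hc
    cases hb : light (get T y) with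
    | false => rw [hb] at hc; exact absurd hc (by simp)
    | true =>
      rw [hb] at hc
      refine ih (fun z hz => hW z (List.mem_cons_of_mem _ hz)) _ ((frc_eq _ _).symm.trans hc)
        fun j hj => ?_
      rw [Nat.testBit_or, Bool.or_eq_true] at hj
      rcases hj with hj | hj
      · exact hR j hj
      obtain ⟨i, a1, a2, a3⟩ := img_spec _ (fun i hi => by
        rw [Nat.testBit_xor, Nat.testBit_and] at hi
        revert hi
        cases R.testBit i <;> cases (bad (get T y).l).testBit i <;> simp) hj
      have a4 : R.testBit i = true := by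
        rw [Nat.testBit_xor, Nat.testBit_and] at a1
        revert a1
        cases R.testBit i <;> simp
      have a5 : i < 4370 := by
        by_contra hi
        rw [Nat.testBit_lt_two_pow ((ok_get h y).trans_le
          (Nat.pow_le_pow_right (by norm_num) (by omega)))] at a2
        simp at a2
      have a6 : fJ (get T y).j = 0 := by
        revert hb
        unfold light
        cases (get T y).j with
        | nil => exact fun _ => rfl
        | cons => exact fun hb => absurd hb (by simp)
      have := W.sub_mem (hW y List.mem_cons_self _ (hR i a4)) (hR i a4)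
      rwa [eT, psi, LinearMap.comp_apply, LinearMap.comp_apply, ext_res, mask_single,
        if_pos (decide_eq_true a5), a6, add_zero, LinearMap.add_apply, a3, map_add,
        Module.End.one_apply, add_sub_cancel_left] at this

theorem rel_of (h : okT T = true) {rels : List (List ℕ × List ℕ)} {sc : List ℕ}
    {gs : List (List ℕ)} (hc : cov T sc (mkRs gs) = true) (hk : ∀ g ∈ gs, chk T rels g = true)
    {p : List ℕ × List ℕ} (hp : p ∈ rels)
    (hy : ∀ y ∈ sc, ∃ z, z * pw (eT T) p.1 = pw (eT T) p.1 * eT T y ∧
      z * pw (eT T) p.2 = pw (eT T) p.2 * eT T y) : pw (eT T) p.1 = pw (eT T) p.2 := by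
  have := cov_spec h (LinearMap.eqLocus (pw (eT T) p.1) (pw (eT T) p.2)) sc (fun y hy' v hv => by
    obtain ⟨z, a, b⟩ := hy y hy'
    rw [LinearMap.mem_eqLocus] at hv ⊢
    rw [← Module.End.mul_apply, ← Module.End.mul_apply, ← a, ← b, Module.End.mul_apply,
      Module.End.mul_apply, hv]) _ hc fun i hi => by
    obtain ⟨g, a, b⟩ := tb_mkRs hi
    exact chk_spec h (hk g a) hp b
  exact LinearMap.eqLocus_eq_top.1 this

end Cfsg.Agent.BM
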